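import Cfsg.Prelude.Def_LieTypeDatum

/-!
Transport of `IsConjUnder`, `splitClassCount` and centralizers along conjugation normalizing the
subgroups.
-/

set_option autoImplicit false

namespace CfsgLib.Split

variable {X : Type*} [Group X]

theorem isConjUnder_map {H : Subgroup X} [H.Normal] (a : X) (x y : X) :
    Cfsg.IsConjUnder H (a * x * a⁻¹) (a * y * a⁻¹) ↔ Cfsg.IsConjUnder H x y := by
  constructor
  · rintro ⟨h, hh, e⟩
    refine ⟨a⁻¹ * h * a, ?_, ?_⟩
    · simpa using Subgroup.Normal.conj_mem inferInstance h hh a⁻¹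
    · calc y = a⁻¹ * (a * y * a⁻¹) * a := by group
        _ = _ := by rw [e]; group
  · rintro ⟨h, hh, rfl⟩
    exact ⟨a * h * a⁻¹, Subgroup.Normal.conj_mem inferInstance h hh a, by group⟩

theorem splitClassCount_map {H K : Subgroup X} [H.Normal] [K.Normal] (a x : X) :
    Cfsg.splitClassCount H K (a * x * a⁻¹) = Cfsg.splitClassCount H K x := by
  unfold Cfsg.splitClassCount
  let e : {y : X // Cfsg.IsConjUnder H x y} ≃ {y : X // Cfsg.IsConjUnder H (a * x * a⁻¹) y} :=
    { toFun := fun y => ⟨a * y.1 * a⁻¹, (isConjUnder_map a x y.1).mpr y.2⟩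
      invFun := fun y => ⟨a⁻¹ * y.1 * a, (isConjUnder_map a x (a⁻¹ * y.1 * a)).mp (by
        rw [show a * (a⁻¹ * y.1 * a) * a⁻¹ = y.1 by group]
        exact y.2)⟩
      left_inv := fun y => by apply Subtype.ext; show a⁻¹ * (a * y.1 * a⁻¹) * a = y.1; group
      right_inv := fun y => by apply Subtype.ext; show a * (a⁻¹ * y.1 * a) * a⁻¹ = y.1; group }
  exact (Nat.card_congr (Quot.congr e fun y z => (isConjUnder_map a y.1 z.1).symm)).symm

theorem nonempty_centralizer_map {H : Subgroup X} [H.Normal] (a x : X) :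
    Nonempty (↥(H ⊓ Subgroup.centralizer {x}) ≃* ↥(H ⊓ Subgroup.centralizer {a * x * a⁻¹})) := by
  have e : (H ⊓ Subgroup.centralizer {x}).map (MulAut.conj a).toMonoidHom =
      H ⊓ Subgroup.centralizer {a * x * a⁻¹} := by
    ext y
    constructor
    · rintro ⟨g, hg, rfl⟩
      refine ⟨Subgroup.Normal.conj_mem inferInstance g hg.1 a,
        Subgroup.mem_centralizer_singleton_iff.mpr ?_⟩
      exact (Commute.map (Subgroup.mem_centralizer_singleton_iff.mp hg.2)
        (MulAut.conj a).toMonoidHom).eq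
    · rintro ⟨h1, h2⟩
      refine ⟨(MulAut.conj a)⁻¹ y, ⟨?_, Subgroup.mem_centralizer_singleton_iff.mpr ?_⟩,
        MulAut.apply_inv_self _ _ _⟩
      · rw [← map_inv, MulAut.conj_apply, inv_inv]
        simpa using Subgroup.Normal.conj_mem inferInstance y h1 a⁻¹
      · apply (MulAut.conj a).injective
        rw [map_mul, map_mul, MulAut.apply_inv_self]
        exact Subgroup.mem_centralizer_singleton_iff.mp h2
  exact ⟨((H ⊓ Subgroup.centralizer {x}).equivMapOfInjective _ (MulAut.conj a).injective).trans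
    (MulEquiv.subgroupCongr e)⟩

end CfsgLib.Split
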