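import Cfsg.Agent.Lib.AutPSp.Basic

/-!
Generation of `Sp_{2m}(F)` by the transvections along `e_i`, `f_i` and `e_0 + e_i`; similitudes with
prescribed columns.
-/

set_option autoImplicit false

namespace CfsgLib.AutPSp

open Matrix Cfsg CfsgLib.Sp

variable {m : ℕ} {F : Type*} [Field F]

/-- A subgroup containing the standard root groups is everything. -/
theorem gen_top {H : Subgroup (SpG m F)} (z : Fin m) (he : ∀ i a, tmat (ee i : Vec m F) a ∈ H)
    (hf : ∀ i a, tmat (ff i : Vec m F) a ∈ H)
    (hv : ∀ i, i ≠ z → ∀ a, tmat (ee z + ee i : Vec m F) a ∈ H) : H = ⊤ := by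
  let S : Set (Vec m F) := {v | ∀ a, tmat v a ∈ H}
  have hsmul : ∀ (c : F) v, v ∈ S → c • v ∈ S := fun c v h a => by rw [tmat_smul]; exact h _
  have hmove : ∀ u v : Vec m F, u ∈ S → ∀ c : F, v + (c * sympForm m F v u) • u ∈ S → v ∈ S := by
    intro u v hu c h a
    have e := conj_tmat (tmat u c) v a
    rw [show (tmat u c).1 *ᵥ v = v + (c * sympForm m F v u) • u from sympTransvection_mulVec u c v] at e
    have h' : tmat u c * tmat v a * (tmat u c)⁻¹ ∈ H := e ▸ h a
    simpa [mul_assoc] using H.mul_mem (H.mul_mem (H.inv_mem (hu c)) h') (hu c)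
  let Z : Vec m F → Fin m → Prop := fun v j => v (.inl j) = 0 ∧ v (.inr j) = 0
  -- moves inside the first block
  have h0 : ∀ v : Vec m F, ¬ Z v z → (∀ v' : Vec m F, v' (.inl z) = 0 → v' (.inr z) ≠ 0 →
      (∀ j, j ≠ z → v' (.inl j) = v (.inl j) ∧ v' (.inr j) = v (.inr j)) → v' ∈ S) → v ∈ S := by
    intro v hvz h
    suffices hh : ∀ v1 : Vec m F, v1 (.inr z) ≠ 0 →
        (∀ j, j ≠ z → v1 (.inl j) = v (.inl j) ∧ v1 (.inr j) = v (.inr j)) → v1 ∈ S by
      by_cases h1 : v (.inr z) = 0
      · have h2 : v (.inl z) ≠ 0 := fun e => hvz ⟨e, h1⟩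
        apply hmove (ff z) v (hf z) 1
        apply hh
        · simp [form_ff_right, h1, h2]
        · intro j hj; simp [form_ff_right, hj]
      · exact hh v h1 fun j _ => ⟨rfl, rfl⟩
    intro v1 hr hsame
    apply hmove (ee z) v1 (he z) (-(v1 (.inl z) / v1 (.inr z)))
    apply h
    · simp [form_ee_right, hr]
    · simp [form_ee_right, hr]
    · intro j hj; simp [form_ee_right, hj, hsame j hj]
  -- killing the other blocks
  have hmain : ∀ s : Finset (Fin m), ∀ v : Vec m F, ¬ Z v z → (∀ j, j ≠ z → j ∉ s → Z v j) →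
      v ∈ S := by
    intro s
    induction s using Finset.induction with
    | empty =>
      intro v hvz hZ
      apply h0 v hvz
      intro v' h1 h2 h3
      have : v' = v' (.inr z) • ff z := by
        funext k
        rcases k with k | k
        · by_cases hk : k = z
          · subst hk; simpa using h1
          · simpa [(h3 k hk).1] using (hZ k hk (by simp)).1
        · by_cases hk : k = z
          · subst hk; simp
          · simpa [hk, (h3 k hk).2] using (hZ k hk (by simp)).2
      rw [this]; exact hsmul _ _ (hf z)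
    | @insert i s hi ih =>
      intro v hvz hZ
      by_cases hiz : i = z
      · exact ih v hvz fun j hj hjs => hZ j hj (by simp [hiz, hj, hjs])
      by_cases hZi : Z v i
      · exact ih v hvz fun j hj hjs => by
          by_cases hji : j = i
          · exact hji ▸ hZi
          · exact hZ j hj (by simp [hji, hjs])
      apply h0 v hvz
      intro v' h1 h2 h3
      suffices hh : ∀ v1 : Vec m F, v1 (.inl i) ≠ 0 → v1 (.inl z) = 0 → v1 (.inr z) ≠ 0 →
          (∀ j, j ≠ z → j ∉ insert i s → Z v1 j) → v1 ∈ S by
        by_cases h4 : v' (.inl i) = 0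
        · have h5 : v' (.inr i) ≠ 0 := fun e =>
            hZi ⟨(h3 i hiz).1 ▸ h4, (h3 i hiz).2 ▸ e⟩
          apply hmove (ee i) v' (he i) 1
          apply hh
          · simp [form_ee_right, h4, h5]
          · simp [form_ee_right, Ne.symm hiz, h1]
          · simp [form_ee_right, h2]
          · intro j hj hjs
            have hji : j ≠ i := fun e => hjs (by simp [e])
            have := hZ j hj hjs
            simp only [Z] at this ⊢
            simp [form_ee_right, hji, h3 j hj, this]
        · apply hh v' h4 h1 h2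
          intro j hj hjs
          have := hZ j hj hjs
          simp only [Z] at this ⊢
          simp [h3 j hj, this]
      intro v1 hl h1' h2' hZ1
      apply hmove (ff i) v1 (hf i) (v1 (.inr i) / v1 (.inl i))
      set v2 := v1 + (v1 (.inr i) / v1 (.inl i) * sympForm m F v1 (ff i)) • ff i with hv2
      have e1 : v2 (.inr i) = 0 := by simp [hv2, form_ff_right, hl]
      have e2 : ∀ j, v2 (.inl j) = v1 (.inl j) := fun j => by simp [hv2]
      have e3 : ∀ j, j ≠ i → v2 (.inr j) = v1 (.inr j) := fun j hj => by simp [hv2, hj]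
      apply hmove (ee z + ee i) v2 (hv i hiz) (-(v1 (.inl i) / v1 (.inr z)))
      have e4 : sympForm m F v2 (ee z + ee i) = v1 (.inr z) := by
        rw [form_add_right, form_ee_right, form_ee_right, e1, add_zero, e3 z (Ne.symm hiz)]
      rw [e4, neg_mul, div_mul_cancel₀ _ h2']
      apply ih
      · intro hz
        have := hz.1
        simp [e2, h1', Ne.symm hiz, hl] at this
      · intro j hj hjs
        by_cases hji : j = i
        · subst hji
          simp [Z, e2, e1, hj]
        · have := hZ1 j hj (by simp [hji, hjs])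
          simp only [Z] at this ⊢
          simp [e2, e3 j hji, hj, hji, this]
  apply le_of_tmat_mem
  intro v
  show v ∈ S
  by_cases hv0 : v = 0
  · subst hv0; simpa using hsmul 0 _ (he z)
  by_cases hvz : Z v z
  · obtain ⟨i, hi⟩ : ∃ i, ¬ Z v i := by
      by_contra hall
      push Not at hall
      exact hv0 (funext fun k => k.casesOn (fun j => (hall j).1) (fun j => (hall j).2))
    have hiz : i ≠ z := fun e => hi (e ▸ hvz)
    suffices hh : ∀ v1 : Vec m F, v1 (.inr i) ≠ 0 → v1 (.inl z) = 0 → v1 (.inr z) = 0 → v1 ∈ S by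
      by_cases h4 : v (.inr i) = 0
      · have h5 : v (.inl i) ≠ 0 := fun e => hi ⟨e, h4⟩
        apply hmove (ff i) v (hf i) 1
        apply hh
        · simp [form_ff_right, h4, h5]
        · simp [hvz.1]
        · simp [form_ff_right, Ne.symm hiz, hvz.2]
      · exact hh v h4 hvz.1 hvz.2
    intro v1 hr h1 h2
    apply hmove (ee z + ee i) v1 (hv i hiz) 1
    apply hmain Finset.univ
    · intro hz
      have := hz.1
      simp [form_add_right, form_ee_right, h1, h2, hr, Ne.symm hiz] at this
    · intro j _ hj; exact absurd (Finset.mem_univ j) hj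
  · exact hmain Finset.univ v hvz fun j _ hj => absurd (Finset.mem_univ j) hj

/-- A similitude with prescribed columns. -/
theorem exists_similitude (c : Fin m ⊕ Fin m → Vec m F) (μ : Fˣ)
    (h : ∀ i j, sympForm m F (c i) (c j) =
      (μ : F) * sympForm m F (Pi.single i 1) (Pi.single j 1)) :
    ∃ g : ↥(GSp m F), (∀ j, (g.1 : Mat m F) *ᵥ (Pi.single j 1) = c j) ∧
      ∀ u v, sympForm m F ((g.1 : Mat m F) *ᵥ u) ((g.1 : Mat m F) *ᵥ v) =
        (μ : F) * sympForm m F u v := by
  set A : Mat m F := Matrix.of (fun r k => c k r) with hA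
  have hcol : ∀ j, A *ᵥ (Pi.single j 1) = c j := fun j => by
    rw [Matrix.mulVec_single_one]; rfl
  have hform : ∀ u v, sympForm m F (A *ᵥ u) (A *ᵥ v) = (μ : F) * sympForm m F u v := by
    have e : (sympBilin m F).comp (Matrix.toLin' A) (Matrix.toLin' A) = (μ : F) • sympBilin m F := by
      refine LinearMap.BilinForm.ext_basis (Pi.basisFun F (Fin m ⊕ Fin m)) fun i j => ?_
      simp [LinearMap.BilinForm.comp_apply, sympBilin_apply, hcol, h, -Matrix.mulVec_single]
    intro u v
    have := LinearMap.congr_fun (LinearMap.congr_fun e u) v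
    simpa [LinearMap.BilinForm.comp_apply, sympBilin_apply] using this
  have hinj : Function.Injective A.mulVec := by
    intro u v huv
    by_contra hne
    obtain ⟨x, hx⟩ := exists_form_ne_zero (sub_ne_zero.mpr hne)
    apply hx
    have := hform x (u - v)
    rw [Matrix.mulVec_sub, huv, sub_self, ← sympBilin_apply, map_zero] at this
    exact (mul_eq_zero.mp this.symm).resolve_left μ.ne_zero
  exact ⟨⟨(Matrix.mulVec_injective_iff_isUnit.mp hinj).unit, μ, hform⟩, hcol, hform⟩

end CfsgLib.AutPSp
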