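import Cfsg.Agent.Lib.AutPSp.Unipotent
import Cfsg.Agent.Lib.AutPSp.Gen
import Cfsg.Agent.Lib.AutPSL.Hua

/-!
Structure of `Aut(PSp_{2m}(q))`: conjugation by a similitude times a field automorphism, unless
`m = 2` and `q` is even (here: assuming `q` odd or `3 ≤ m`).
-/

set_option autoImplicit false

namespace CfsgLib.AutPSp

open Matrix Cfsg CfsgLib.Sp

variable {m : ℕ} {F : Type*} [Field F]

theorem conjS_inv_tel (g : ↥(GSp m F)) {c : Fˣ}
    (hc : ∀ u v, sympForm m F ((g.1 : Mat m F) *ᵥ u) ((g.1 : Mat m F) *ᵥ v) =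
      (c : F) * sympForm m F u v) (v : Vec m F) (a : F) :
    (conjS g)⁻¹ (tel ((g.1 : Mat m F) *ᵥ v) a) = tel v (a * (c : F)) := by
  apply (conjS g).injective
  rw [MulAut.apply_inv_self, conjS_tel g hc, mul_assoc, Units.mul_inv, mul_one]

/-- The relation between two root groups that an automorphism maps to root groups. -/
theorem pair_relation (β : MulAut (PSpG m F)) {v w v' w' : Vec m F} {φ ψ : F → F} {κ : F}
    (hv : ∀ a, β (tel v a) = tel v' (φ a)) (hw : ∀ a, β (tel w a) = tel w' (ψ a))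
    (hvw : sympForm m F v w = -1) (hκ : sympForm m F v' w' = -κ) (hκ0 : κ ≠ 0) {a : F} (ha : a ≠ 0) :
    φ a * ψ (-a⁻¹) * κ ^ 2 = -1 := by
  have hwv : sympForm m F w v = 1 := by rw [sympForm_flip, hvw, neg_neg]
  have hwv' : sympForm m F w' v' = κ := by rw [sympForm_flip, hκ, neg_neg]
  have hw0 : w ≠ 0 := fun e => by simp [e, ← sympBilin_apply] at hwv
  have hψ : ψ 1 ≠ 0 := fun e => tel_ne_one hw0 one_ne_zero
    (β.injective (by rw [hw, e, tel_zero, map_one]))
  have e1 : ∀ (x y : Vec m F) (b d : F), MulAut.conj (tel x b : PSpG m F) (tel y d) =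
      tel (y + (b * sympForm m F y x) • x) d := by
    intro x y b d
    show MulAut.conj (QuotientGroup.mk (tmat x b) : PSpG m F) (tel y d) = _
    rw [tel_conj_sp]
    congr 1
    exact sympTransvection_mulVec x b y
  have key : MulAut.conj (tel v a : PSpG m F) (tel w 1) =
      MulAut.conj (tel w (-a⁻¹) : PSpG m F) (tel v (a * a)) := by
    rw [e1, e1, hwv, hvw, mul_one, show w + a • v = a • (v + (-a⁻¹ * -1) • w) by
      rw [smul_add, smul_smul, show a * (-a⁻¹ * -1) = 1 by field_simp, one_smul, add_comm]]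
    rw [tel_smul, one_mul]
  have key' := congrArg β key
  rw [MulAut.conj_apply, MulAut.conj_apply, map_mul, map_mul, map_inv, map_mul, map_mul, map_inv,
    hv, hw, hw, hv, ← MulAut.conj_apply, ← MulAut.conj_apply, e1, e1, hwv', hκ] at key'
  have hne : w' + (φ a * κ) • v' ≠ 0 := fun e => by
    have h := congrArg (fun x => sympForm m F v' x) e
    simp only [form_add_right, form_smul_right, sympForm_self, mul_zero, add_zero, hκ] at h
    rw [← sympBilin_apply v' 0, map_zero] at h
    exact hκ0 (neg_eq_zero.mp h)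
  obtain ⟨c, hc⟩ := exists_smul_of_tel_eq hne hψ key'
  have h1 := congrArg (fun x => sympForm m F v' x) hc
  have h2 := congrArg (fun x => sympForm m F x w') hc
  simp only [form_add_right, form_add_left, form_smul_left, form_smul_right, sympForm_self, hκ,
    mul_zero, add_zero, zero_add] at h1 h2
  have h3 : c = φ a * κ := by
    apply mul_right_cancel₀ (neg_ne_zero.mpr hκ0)
    linear_combination -h2
  subst h3
  apply mul_right_cancel₀ hκ0
  linear_combination -h1

/-- An automorphism mapping one root group into another: the coefficient function. -/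
theorem exists_coeff (β : MulAut (PSpG m F)) {v v' : Vec m F} (hv : v ≠ 0) (hv' : v' ≠ 0)
    (h : ∀ a, ∃ b, β (tel v a) = tel v' b) :
    ∃ φ : F → F, (∀ a, β (tel v a) = tel v' (φ a)) ∧ (∀ a b, φ (a + b) = φ a + φ b) ∧
      Function.Injective φ ∧ φ 0 = 0 ∧ ∀ a, φ (-a) = -φ a := by
  choose φ hφ using h
  have hadd : ∀ a b, φ (a + b) = φ a + φ b := fun a b => tel_injective hv' (by
    rw [← hφ, tel_add, map_mul, hφ, hφ, tel_add])
  have h0 : φ 0 = 0 := tel_injective hv' (by rw [← hφ, tel_zero, map_one, tel_zero])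
  refine ⟨φ, hφ, hadd, fun a b e => tel_injective hv (β.injective (by rw [hφ, hφ, e])), h0,
    fun a => ?_⟩
  have := hadd a (-a)
  rw [add_neg_cancel, h0] at this
  exact (neg_eq_of_add_eq_zero_right this.symm).symm

/-- Root groups mapped to root groups: orthogonality is preserved. -/
theorem orth_iff (β : MulAut (PSpG m F)) {v w v' w' : Vec m F} (hv : v ≠ 0) (hw : w ≠ 0)
    (hv' : v' ≠ 0) (hw' : w' ≠ 0) (hβv : ∀ a, ∃ b, β (tel v a) = tel v' b)
    (hβw : ∀ a, ∃ b, β (tel w a) = tel w' b) :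
    sympForm m F v' w' = 0 ↔ sympForm m F v w = 0 := by
  obtain ⟨φ, hφ, -, hφi, hφ0, -⟩ := exists_coeff β hv hv' hβv
  obtain ⟨ψ, hψ, -, hψi, hψ0, -⟩ := exists_coeff β hw hw' hβw
  have hφ1 : φ 1 ≠ 0 := fun e => one_ne_zero (hφi (e.trans hφ0.symm))
  have hψ1 : ψ 1 ≠ 0 := fun e => one_ne_zero (hψi (e.trans hψ0.symm))
  rw [← commute_tel_iff hv hw (one_ne_zero (α := F)) (one_ne_zero (α := F)),
    ← commute_tel_iff hv' hw' hφ1 hψ1, ← hφ, ← hψ]
  exact ⟨fun h => β.injective (by rw [map_mul, map_mul]; exact h.eq), fun h => h.map β.toMonoidHom⟩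

variable [Fintype F]

/-- After a similitude, all root groups along the standard basis are stabilized. -/
theorem exists_fix_basis (hm : 1 ≤ m) (β : MulAut (PSpG m F))
    (hcase : ((2 : F) ≠ 0 ∨ 3 ≤ m) ∨ PresTel β) :
    ∃ g : ↥(GSp m F), ∀ j a, ∃ b, ((conjS g)⁻¹ * β : MulAut (PSpG m F))
      (tel (Pi.single j 1) a) = tel (Pi.single j 1) b := by
  have hne : ∀ j : Fin m ⊕ Fin m, (Pi.single j 1 : Vec m F) ≠ 0 := fun j => by simp
  choose c hc0 hc using fun j : Fin m ⊕ Fin m => exists_image_of_pres hm β hcase (hne j)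
  have horth := fun j k => orth_iff β (hne j) (hne k) (hc0 j) (hc0 k) (hc j) (hc k)
  set κ : Fin m → F := fun i => sympForm m F (c (.inl i)) (c (.inr i)) with hκ
  have hκ0 : ∀ i, κ i ≠ 0 := fun i h => by simpa [form_ff_right] using (horth _ _).mp h
  set t : Fin m ⊕ Fin m → F := Sum.elim (fun _ => 1) (fun i => -(κ i)⁻¹) with ht
  have ht0 : ∀ j, t j ≠ 0 := by rintro (i | i) <;> simp [ht, hκ0]
  obtain ⟨g, hg, hgf⟩ := exists_similitude (fun j => t j • c j) 1 (by
    intro j k
    rw [form_smul_left, form_smul_right, Units.val_one, one_mul]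
    rcases j with i | i <;> rcases k with l | l
    · rw [form_ee_right]; simp [(horth (.inl i) (.inl l)).mpr (by simp [form_ee_right])]
    · rw [form_ff_right]
      by_cases hil : i = l
      · subst hil
        show 1 * (-(κ i)⁻¹ * κ i) = _
        field_simp [hκ0 i]
        simp
      · simp [hil, Ne.symm hil, (horth (.inl i) (.inr l)).mpr (by simp [form_ff_right, Ne.symm hil])]
    · rw [form_ee_right]
      by_cases hil : i = l
      · subst hil
        show -(κ i)⁻¹ * (1 * sympForm m F (c (.inr i)) (c (.inl i))) = _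
        rw [sympForm_flip (c (.inl i)) (c (.inr i))]
        show -(κ i)⁻¹ * (1 * -κ i) = _
        field_simp [hκ0 i]
        simp
      · simp [hil, Ne.symm hil, (horth (.inr i) (.inl l)).mpr (by simp [form_ee_right, Ne.symm hil])]
    · rw [form_ff_right]; simp [(horth (.inr i) (.inr l)).mpr (by simp [form_ff_right])])
  refine ⟨g, fun j a => ?_⟩
  obtain ⟨b, hb⟩ := hc j a
  refine ⟨b * ((t j)⁻¹ * (t j)⁻¹), ?_⟩
  have e : tel (c j) b = tel ((g.1 : Mat m F) *ᵥ (Pi.single j 1)) (b * ((t j)⁻¹ * (t j)⁻¹)) := by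
    rw [hg, tel_smul]
    congr 1
    have := ht0 j
    field_simp
  rw [MulAut.mul_apply, hb, e, conjS_inv_tel g hgf, Units.val_one, mul_one]

/-- Every automorphism of `PSp_{2m}(q)` is a similitude times a field automorphism. -/
theorem aut_psp_structure_of_pres (hm : 1 ≤ m) (β : MulAut (PSpG m F))
    (hcase : ((2 : F) ≠ 0 ∨ 3 ≤ m) ∨ PresTel β) :
    ∃ (g : ↥(GSp m F)) (σ : F ≃+* F), β = conjS g * fieldS σ := by
  obtain ⟨g, hg⟩ := exists_fix_basis hm β hcase
  set β₁ := ((conjS g)⁻¹ * β : MulAut (PSpG m F)) with hβ₁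
  have hcase₁ : ((2 : F) ≠ 0 ∨ 3 ≤ m) ∨ PresTel β₁ := hcase.imp_right fun hP v a => by
    obtain ⟨w, b, hwb⟩ := hP v a
    obtain ⟨c, hc⟩ := g.2
    refine ⟨((g.1⁻¹ : GL (Fin m ⊕ Fin m) F) : Mat m F) *ᵥ w, b * (c : F), ?_⟩
    rw [hβ₁, MulAut.mul_apply, hwb]
    conv_lhs => rw [← mulVec_inv_mulVec g.1 w]
    exact conjS_inv_tel g hc _ _
  set z : Fin m := ⟨0, by omega⟩
  choose φ hφ hφadd hφi hφ0 hφneg using fun i =>
    exists_coeff β₁ (ee_ne_zero (F := F) i) (ee_ne_zero i) (hg (.inl i))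
  choose ψ hψ hψadd hψi hψ0 hψneg using fun i =>
    exists_coeff β₁ (ff_ne_zero (F := F) i) (ff_ne_zero i) (hg (.inr i))
  have hR : ∀ i a, a ≠ 0 → φ i a * ψ i (-a⁻¹) = -1 := fun i a ha => by
    simpa using pair_relation β₁ (hφ i) (hψ i) (by simp [form_ff_right]) (by simp [form_ff_right] : _ = -(1 : F))
      one_ne_zero ha
  -- images of the root groups along `e₀ + eᵢ`
  have hγ' : ∀ i : Fin m, ∃ γ : F, γ ≠ 0 ∧ (i = z → γ = 1) ∧ (i ≠ z → ∀ a,
      β₁ (tel (ee z + ee i) a) = tel (ee z + γ • ee i) (φ z a)) ∧ ∀ a, φ i a = γ * γ * φ z a := by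
    intro i
    by_cases hiz : i = z
    · subst hiz; exact ⟨1, one_ne_zero, fun _ => rfl, fun h => absurd rfl h, fun a => by simp⟩
    have hv : (ee z + ee i : Vec m F) ≠ 0 := fun e => by
      have := congrFun e (Sum.inl z); simp [Ne.symm hiz] at this
    obtain ⟨w, hw0, hw⟩ := exists_image_of_pres hm β₁ hcase₁ hv
    have ho := fun j => orth_iff β₁ hv (ee_ne_zero j) hw0 (ee_ne_zero j) hw (hg (.inl j))
    have ho' := fun j => orth_iff β₁ hv (ff_ne_zero j) hw0 (ff_ne_zero j) hw (hg (.inr j))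
    simp only [form_ee_right, form_ff_right] at ho ho'
    have hwr : ∀ j, w (.inr j) = 0 := fun j => (ho j).mpr (by simp)
    have hwl : ∀ j, j ≠ z → j ≠ i → w (.inl j) = 0 := fun j h1 h2 => by
      have := (ho' j).mpr (by simp [h1, h2])
      simpa using this
    have hwz : w (.inl z) ≠ 0 := fun e => by
      have := (ho' z).mp (by simp [e]); simp [hiz, Ne.symm hiz] at this
    have hwi : w (.inl i) ≠ 0 := fun e => by
      have := (ho' i).mp (by simp [e]); simp [hiz, Ne.symm hiz] at this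
    set γ := w (.inl i) / w (.inl z) with hγ
    have hwe : w = w (.inl z) • (ee z + γ • ee i) := by
      funext k
      rcases k with k | k
      · by_cases h1 : k = z
        · subst h1; simp [Ne.symm hiz]
        · by_cases h2 : k = i
          · subst h2
            simp [h1, hγ]
            field_simp
          · simp [h1, h2, hwl k h1 h2]
      · simp [hwr k]
    have hv' : (ee z + γ • ee i : Vec m F) ≠ 0 := fun e => hw0 (by rw [hwe, e, smul_zero])
    obtain ⟨h, hh, -, -, -, -⟩ := exists_coeff β₁ hv hv' (fun a => by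
      obtain ⟨b, hb⟩ := hw a
      exact ⟨_, by rw [hb, hwe, tel_smul]⟩)
    have hγ0 : γ ≠ 0 := div_ne_zero hwi hwz
    have hz1 : ∀ a, a ≠ 0 → h a * ψ z (-a⁻¹) = -1 := fun a ha => by
      simpa using pair_relation β₁ hh (hψ z) (by simp [form_ff_right, Ne.symm hiz] : _ = -(1 : F))
        (by simp [form_ff_right, Ne.symm hiz] : _ = -(1 : F)) one_ne_zero ha
    have hi1 : ∀ a, a ≠ 0 → h a * ψ i (-a⁻¹) * γ ^ 2 = -1 := fun a ha =>
      pair_relation β₁ hh (hψ i) (by simp [form_ff_right, hiz] : _ = -(1 : F))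
        (by simp [form_ff_right, hiz] : _ = -γ) hγ0 ha
    have hz : ∀ a, h a = φ z a := fun a => by
      rcases eq_or_ne a 0 with rfl | ha
      · rw [hφ0]
        exact tel_injective hv' (by rw [← hh, tel_zero, map_one, tel_zero])
      · have e1 := hz1 a ha
        have e2 := hR z a ha
        exact mul_right_cancel₀ (fun e => by simp [e] at e2) (e1.trans e2.symm)
    refine ⟨γ, hγ0, fun e => absurd e hiz, fun _ a => by rw [hh, hz], fun a => ?_⟩
    rcases eq_or_ne a 0 with rfl | ha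
    · rw [hφ0, hφ0, mul_zero]
    · have e1 := hi1 a ha
      have e2 := hR i a ha
      rw [hz] at e1
      have : ψ i (-a⁻¹) ≠ 0 := fun e => by simp [e] at e2
      apply mul_right_cancel₀ this
      linear_combination e2 - e1
  choose γ hγ0 hγz hγ hφγ using hγ'
  -- the diagonal similitude
  have hf10 : φ z 1 ≠ 0 := fun e => one_ne_zero (hφi z (e.trans (hφ0 z).symm))
  set μ : Fˣ := Units.mk0 (φ z 1) hf10 with hμ
  set s : Fin m ⊕ Fin m → F := Sum.elim (fun i => (γ i)⁻¹) (fun i => φ z 1 * γ i) with hs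
  obtain ⟨d, hd, hdf⟩ := exists_similitude (fun j => Pi.single j (s j)) μ (by
    intro j k
    have e : ∀ (j : Fin m ⊕ Fin m) (x : F), (Pi.single j x : Vec m F) = x • Pi.single j 1 :=
      fun j x => by rw [← Pi.single_smul', smul_eq_mul, mul_one]
    rw [e j, e k, form_smul_left, form_smul_right]
    rcases j with i | i <;> rcases k with l | l
    · simp [form_ee_right]
    · rw [form_ff_right]
      by_cases hil : i = l
      · subst hil; simp [hs, hμ, hγ0, mul_comm]
      · simp [Ne.symm hil]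
    · rw [form_ee_right]
      by_cases hil : i = l
      · subst hil; simp [hs, hμ, hγ0]
      · simp [Ne.symm hil]
    · simp [form_ff_right])
  have hdj : ∀ j, (d.1 : Mat m F) *ᵥ (Pi.single j 1) = s j • Pi.single j 1 := fun j => by
    rw [hd, ← Pi.single_smul', smul_eq_mul, mul_one]
  set β₂ := (conjS d * β₁ : MulAut (PSpG m F)) with hβ₂
  set f : F → F := fun a => φ z a / φ z 1 with hf
  have hinvμ : ((μ⁻¹ : Fˣ) : F) = (φ z 1)⁻¹ := by rw [Units.val_inv_eq_inv_val]; rfl
  have he : ∀ i a, β₂ (tel (ee i) a) = tel (ee i) (f a) := fun i a => by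
    rw [hβ₂, MulAut.mul_apply, hφ, conjS_tel d hdf, hdj, tel_smul, hφγ]
    congr 1
    simp only [hs, hf, hinvμ, Sum.elim_inl]
    have := hγ0 i
    field_simp
  have hv : ∀ i, i ≠ z → ∀ a, β₂ (tel (ee z + ee i) a) = tel (ee z + ee i) (f a) := fun i hi a => by
    rw [hβ₂, MulAut.mul_apply, hγ i hi, conjS_tel d hdf, mulVec_add, mulVec_smul, hdj, hdj]
    have e : s (.inl z) • ee z + γ i • s (.inl i) • ee i = (ee z + ee i : Vec m F) := by
      simp [hs, hγz z rfl, smul_smul, hγ0 i]
    rw [e, hinvμ, hf]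
    simp [div_eq_mul_inv]
  have hfadd : ∀ a b, f (a + b) = f a + f b := fun a b => by simp [hf, hφadd, add_div]
  have hf1 : f 1 = 1 := by simp [hf, hf10]
  have hf0 : f 0 = 0 := by simp [hf, hφ0]
  have hfneg : ∀ a, f (-a) = -f a := fun a => by simp [hf, hφneg, neg_div]
  have hfi : Function.Injective f := fun a b e => hφi z ((div_left_inj' hf10).mp e)
  obtain ⟨χ, hχ, -, -, hχ0, -⟩ : ∃ χ : Fin m → F → F, (∀ i a, β₂ (tel (ff i) a) = tel (ff i) (χ i a)) ∧
      True ∧ True ∧ (∀ i, χ i 0 = 0) ∧ True := by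
    choose χ hχ _ _ hχ0 _ using fun i => exists_coeff β₂ (ff_ne_zero (F := F) i) (ff_ne_zero i)
      (fun a => ⟨_, by rw [hβ₂, MulAut.mul_apply, hψ, conjS_tel d hdf, hdj, tel_smul]⟩)
    exact ⟨χ, hχ, trivial, trivial, hχ0, trivial⟩
  have hR2 : ∀ i a, a ≠ 0 → f a * χ i (-a⁻¹) = -1 := fun i a ha => by
    simpa using pair_relation β₂ (he i) (hχ i) (by simp [form_ff_right]) (by simp [form_ff_right] : _ = -(1 : F))
      one_ne_zero ha
  -- the Weyl element carries `X(e₀)` to `X(f₀)`
  have hχz : ∀ a, χ z a = f a := by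
    intro a
    have hχ1 : χ z 1 = 1 := by
      have := hR2 z (-1) (by simp)
      rw [hfneg, hf1, inv_neg, inv_one, neg_neg] at this
      linear_combination -this
    set W : SpG m F := tmat (ee z) 1 * tmat (ff z) 1 * tmat (ee z) 1 with hW
    have hWe : W.1 *ᵥ (ee z : Vec m F) = -ff z := by
      show (sympTransvection m _ 1 * sympTransvection m _ 1 * sympTransvection m _ 1) *ᵥ _ = _
      rw [← mulVec_mulVec, ← mulVec_mulVec]
      simp only [sympTransvection_mulVec, form_ee_right, form_ff_right]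
      funext k
      rcases k with k | k <;> by_cases hk : k = z <;> simp [hk]
    have hβW : β₂ (QuotientGroup.mk W) = QuotientGroup.mk W := by
      show β₂ (tel (ee z) 1 * tel (ff z) 1 * tel (ee z) 1) = tel (ee z) 1 * tel (ff z) 1 * tel (ee z) 1
      rw [map_mul, map_mul, he, hχ, hf1, hχ1]
    have hconj : ∀ c, MulAut.conj (QuotientGroup.mk W : PSpG m F) (tel (ee z) c) = tel (ff z) c :=
      fun c => by
        rw [tel_conj_sp, hWe, show (-ff z : Vec m F) = (-1 : F) • ff z by rw [neg_one_smul], tel_smul]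
        simp
    apply tel_injective (ff_ne_zero (F := F) z)
    rw [← hχ, ← hconj, ← hconj, MulAut.conj_apply, MulAut.conj_apply, map_mul, map_mul, map_inv, hβW,
      he]
  have hinv : ∀ a, f a⁻¹ = (f a)⁻¹ := fun a => by
    rcases eq_or_ne a 0 with rfl | ha
    · simp [hf0]
    · apply eq_inv_of_mul_eq_one_right
      have := hR2 z a ha
      rw [hχz, hfneg] at this
      linear_combination -this
  have hmul := CfsgLib.AutPSL.mul_of_inv_compat f hfadd hf1 hinv hfi
  set σ := CfsgLib.AutPSL.ringEquivOfFun f hfadd hf1 hmul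
  have hσ : ∀ a, σ a = f a := fun a => rfl
  have hχf : ∀ i a, χ i a = f a := fun i a => by
    rcases eq_or_ne a 0 with rfl | ha
    · rw [hχ0, hf0]
    · have hb : -a⁻¹ ≠ (0 : F) := by simp [ha]
      have e1 := hR2 i _ hb
      have e2 := hR2 z _ hb
      rw [show -(-a⁻¹)⁻¹ = a by rw [inv_neg, neg_neg, inv_inv]] at e1 e2
      rw [hχz] at e2
      exact mul_left_cancel₀ (fun e => by simp [e] at e2) (e1.trans e2.symm)
  have hcomp : ∀ j : Fin m ⊕ Fin m, σ ∘ (Pi.single j 1 : Vec m F) = Pi.single j 1 := fun j => by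
    funext k; simp [Pi.single_apply, apply_ite σ]
  have hfix : β₂ = fieldS σ := by
    let H : Subgroup (SpG m F) := MonoidHom.eqLocus (β₂.toMonoidHom.comp (QuotientGroup.mk' _))
      ((fieldS σ).toMonoidHom.comp (QuotientGroup.mk' _))
    refine aut_ext_gen (H := H) (gen_top z ?_ ?_ ?_) fun A hA => hA
    · intro i a
      show β₂ (tel (ee i) a) = fieldS σ (tel (ee i) a)
      rw [he, fieldS_tel, hcomp, hσ]
    · intro i a
      show β₂ (tel (ff i) a) = fieldS σ (tel (ff i) a)
      rw [hχ, hχf, fieldS_tel, hcomp, hσ]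
    · intro i hi a
      show β₂ (tel (ee z + ee i) a) = fieldS σ (tel (ee z + ee i) a)
      rw [hv i hi, fieldS_tel, hσ]
      congr 1
      funext k
      simp [Pi.single_apply, apply_ite σ]
  refine ⟨g * d⁻¹, σ, ?_⟩
  rw [← hfix, hβ₂, hβ₁, map_mul, map_inv]
  group

/-- Every automorphism of `PSp_{2m}(q)` is a similitude times a field automorphism, for `q` odd or
`3 ≤ m`. -/
theorem aut_psp_structure (hm : 1 ≤ m) (hcase : (2 : F) ≠ 0 ∨ 3 ≤ m) (β : MulAut (PSpG m F)) :
    ∃ (g : ↥(GSp m F)) (σ : F ≃+* F), β = conjS g * fieldS σ :=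
  aut_psp_structure_of_pres hm β (Or.inl hcase)

end CfsgLib.AutPSp
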