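import Cfsg.Agent.Lib.Sp.Group

/-!
Symplectic bases of non-degenerate alternating forms.
-/

set_option autoImplicit false

namespace CfsgLib.AutPSp

open Matrix Cfsg CfsgLib.Sp
open LinearMap (BilinForm)

variable {F V : Type*} [Field F] [AddCommGroup V] [Module F V]

/-- Hyperbolic families of length `k ≤ dim V / 2` exist. -/
theorem exists_symp_family [FiniteDimensional F V] (B : BilinForm F V) (hA : B.IsAlt)
    (hB : B.SeparatingLeft) (k : ℕ) (hk : 2 * k ≤ Module.finrank F V) :
    ∃ e f : Fin k → V, (∀ i j, B (e i) (e j) = 0) ∧ (∀ i j, B (f i) (f j) = 0) ∧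
      ∀ i j, B (e i) (f j) = if i = j then -1 else 0 := by
  induction k with
  | zero => exact ⟨Fin.elim0, Fin.elim0, fun i => i.elim0, fun i => i.elim0, fun i => i.elim0⟩
  | succ k ih =>
    obtain ⟨e, f, hee, hff, hef⟩ := ih (by omega)
    set y : Fin k ⊕ Fin k → V := Sum.elim e f
    set L : V →ₗ[F] (Fin k ⊕ Fin k → F) := LinearMap.pi fun s => B (y s) with hL
    obtain ⟨z, hz, hz0⟩ : ∃ z, L z = 0 ∧ z ≠ 0 := by
      by_contra hno
      push Not at hno
      have := LinearMap.finrank_le_finrank_of_injective (f := L)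
        ((injective_iff_map_eq_zero L).mpr hno)
      rw [Module.finrank_pi, Fintype.card_sum, Fintype.card_fin] at this
      omega
    have hez : ∀ i, B (e i) z = 0 := fun i => congrFun hz (Sum.inl i)
    have hfz : ∀ i, B (f i) z = 0 := fun i => congrFun hz (Sum.inr i)
    have hfe : ∀ i j, B (f i) (e j) = if j = i then 1 else 0 := fun i j => by
      rw [alt_flip hA (e j) (f i), hef]; split_ifs <;> simp
    have hzspan : z ∉ Submodule.span F (Set.range y) := by
      intro hmem
      obtain ⟨c, hc⟩ := (Submodule.mem_span_range_iff_exists_fun F).mp hmem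
      apply hz0
      rw [← hc]
      refine Finset.sum_eq_zero fun s _ => ?_
      suffices c s = 0 by rw [this, zero_smul]
      rcases s with i | i
      · have := hfz i
        rw [← hc, map_sum, Fintype.sum_sum_type] at this
        simpa [y, hfe, hff] using this
      · have := hez i
        rw [← hc, map_sum, Fintype.sum_sum_type] at this
        simpa [y, hef, hee] using this
    obtain ⟨p, hp, hp1⟩ :=
      CfsgLib.Forms.exists_orth_pair_one (σ := RingHom.id F) Function.surjective_id B hB y z hzspan
    have hzl : ∀ i, B z (e i) = 0 ∧ B z (f i) = 0 := fun i =>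
      ⟨by rw [alt_flip hA (e i) z, hez, neg_zero], by rw [alt_flip hA (f i) z, hfz, neg_zero]⟩
    have hpl : ∀ i, B p (e i) = 0 ∧ B p (f i) = 0 := fun i =>
      ⟨by rw [alt_flip hA (e i) p, show B (e i) p = 0 from hp (Sum.inl i), neg_zero],
        by rw [alt_flip hA (f i) p, show B (f i) p = 0 from hp (Sum.inr i), neg_zero]⟩
    have hep : ∀ i, B (e i) p = 0 := fun i => hp (Sum.inl i)
    have hfp : ∀ i, B (f i) p = 0 := fun i => hp (Sum.inr i)
    have hpz : B p z = -1 := by rw [alt_flip hA z p, hp1]
    refine ⟨Fin.snoc e p, Fin.snoc f z, ?_, ?_, ?_⟩ <;> intro i j <;>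
      induction i using Fin.lastCases <;> induction j using Fin.lastCases <;>
      simp [hA.self_eq_zero, hee, hff, hef, hez, hfz, hzl, hpl, hep, hfp, hpz,
        (Fin.castSucc_lt_last _).ne, (Fin.castSucc_lt_last _).ne']

/-- A non-degenerate alternating form in dimension `2m` has a symplectic basis. -/
theorem exists_symp_cols [FiniteDimensional F V] {m : ℕ} (B : BilinForm F V) (hA : B.IsAlt)
    (hB : B.SeparatingLeft) (hm : Module.finrank F V = m + m) :
    ∃ c : Fin m ⊕ Fin m → V, ∀ i j, B (c i) (c j) =
      sympForm m F (Pi.single i 1) (Pi.single j 1) := by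
  obtain ⟨e, f, hee, hff, hef⟩ := exists_symp_family B hA hB m (by omega)
  refine ⟨Sum.elim e f, ?_⟩
  rintro (i | i) (j | j) <;> rw [sympForm_eq_sum]
  · simp [hee]
  · simp [hef, Pi.single_apply, Finset.sum_ite_eq', eq_comm, ite_mul]
    split_ifs <;> simp
  · rw [Sum.elim_inr, Sum.elim_inl, alt_flip hA (e j) (f i), hef]
    simp [Pi.single_apply, Finset.sum_ite_eq', eq_comm, ite_mul]
    split_ifs <;> simp
  · simp [hff]

end CfsgLib.AutPSp
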