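import Cfsg.Agent.Lib.AutPSp.Kernel
import Cfsg.Agent.Lib.AutPSp.Main
import Cfsg.Agent.Lib.AutPSp.SympBasis
import Cfsg.Agent.Lib.AutPSL.FieldGalois
import Cfsg.Agent.Lib.AutPSL.Split

/-!
The coset `PGSp_{2m} · σ` of a standard field automorphism, and the centralizer of `σ` in `PGSp_{2m}`.
-/

set_option autoImplicit false

namespace CfsgLib.AutPSp

open Matrix Cfsg CfsgLib.Sp CfsgLib.FieldGalois

variable {m : ℕ} {F : Type*} [Field F]

theorem normal_inndiag [Finite F] (hm : 1 ≤ m) : (Cfsg.inndiagPSp m F).Normal := by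
  have := Fintype.ofFinite F
  by_cases h2 : (2 : F) = 0
  · rw [inndiag_eq_inn_of_char_two hm h2]
    infer_instance
  · refine ⟨fun x hx β => ?_⟩
    obtain ⟨g, rfl⟩ := mem_inndiag_iff.mp hx
    obtain ⟨b, τ, rfl⟩ := aut_psp_structure hm (Or.inl h2) β
    refine mem_inndiag_iff.mpr ⟨b * gspField τ g * b⁻¹, ?_⟩
    calc conjS (b * gspField τ g * b⁻¹) = conjS b * (conjS (gspField τ g) * fieldS τ) *
          ((fieldS τ)⁻¹ * (conjS b)⁻¹) := by rw [map_mul, map_mul, map_inv]; group
      _ = conjS b * (fieldS τ * conjS g) * ((fieldS τ)⁻¹ * (conjS b)⁻¹) := by rw [fieldS_mul_conjS]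
      _ = _ := by group

/-- `g σ(g) ⋯ σ^{k-1}(g)` for similitudes. -/
def gcocy (σ : F ≃+* F) (g : ↥(GSp m F)) : ℕ → ↥(GSp m F)
  | 0 => 1
  | k + 1 => g * gspField σ (gcocy σ g k)

theorem gcocy_coe (σ : F ≃+* F) (g : ↥(GSp m F)) (k : ℕ) :
    (gcocy σ g k).1 = cocy σ g.1 k := by
  induction k with
  | zero => rfl
  | succ k ih =>
    show g.1 * Matrix.GeneralLinearGroup.map σ.toRingHom (gcocy σ g k).1 = _
    rw [ih]; rfl

theorem conjS_fieldS_pow (σ : F ≃+* F) (g : ↥(GSp m F)) (k : ℕ) :
    (conjS g * fieldS σ) ^ k = conjS (gcocy σ g k) * fieldS (σ ^ k) := by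
  induction k with
  | zero => simp [gcocy]
  | succ k ih =>
    rw [pow_succ' (conjS g * fieldS σ), ih, gcocy, map_mul, pow_succ' σ, map_mul fieldS]
    calc conjS g * fieldS σ * (conjS (gcocy σ g k) * fieldS (σ ^ k))
        = conjS g * (fieldS σ * conjS (gcocy σ g k)) * fieldS (σ ^ k) := by group
      _ = _ := by rw [fieldS_mul_conjS]; simp only [mul_assoc]

theorem scalar_cocy_fixed' (hm : 1 ≤ m) {σ : F ≃+* F} {g : GL (Fin m ⊕ Fin m) F} {c : Fˣ}
    (h : cocy σ g (orderOf σ) = Matrix.GeneralLinearGroup.scalar (Fin m ⊕ Fin m) c) :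
    σ (c : F) = c := by
  have hT : ∀ v, (semi σ g)^[orderOf σ] v = (c : F) • v := fun v => by
    rw [semi_iterate, h, pow_orderOf_eq_one, scalar_mulVec']
    rfl
  set v : Vec m F := ee ⟨0, by omega⟩
  have e : (semi σ g)^[orderOf σ + 1] v = semi σ g ((semi σ g)^[orderOf σ] v) :=
    Function.iterate_succ_apply' _ _ _
  rw [Function.iterate_succ_apply, hT, hT, semi_smul] at e
  have hne : semi σ g v ≠ 0 := by
    intro e0
    have h1 := congrArg (((g⁻¹ : GL (Fin m ⊕ Fin m) F) : Mat m F) *ᵥ ·) e0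
    simp only [semi, inv_mulVec_mulVec, mulVec_zero] at h1
    have h2 := congrFun h1 (Sum.inl ⟨0, by omega⟩)
    simp [v] at h2
  exact (smul_left_injective F hne e).symm

theorem cocy_smul_val (σ : F ≃+* F) (x : Fˣ) (g : GL (Fin m ⊕ Fin m) F) (k : ℕ) :
    (cocy σ (Matrix.GeneralLinearGroup.scalar (Fin m ⊕ Fin m) x * g) k : Mat m F) =
      (∏ i ∈ Finset.range k, (σ ^ i) (x : F)) • (cocy σ g k : Mat m F) := by
  induction k with
  | zero => simp [cocy]
  | succ k ih =>
    show (Matrix.GeneralLinearGroup.scalar (Fin m ⊕ Fin m) x * g : GL _ F).val *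
      (cocy σ (Matrix.GeneralLinearGroup.scalar (Fin m ⊕ Fin m) x * g) k : Mat m F).map σ =
      _ • ((g : Mat m F) * (cocy σ g k : Mat m F).map σ)
    rw [ih, Finset.prod_range_succ' _ k]
    have e1 : (Matrix.GeneralLinearGroup.scalar (Fin m ⊕ Fin m) x * g : GL _ F).val =
        (x : F) • (g : Mat m F) := by
      ext i j; simp [Matrix.scalar_apply, Matrix.diagonal_mul]
    have e2 : ((∏ i ∈ Finset.range k, (σ ^ i) (x : F)) • (cocy σ g k : Mat m F)).map σ =
        (∏ i ∈ Finset.range k, (σ ^ (i + 1)) (x : F)) • (cocy σ g k : Mat m F).map σ := by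
      ext i j; simp [map_prod, pow_succ', RingAut.mul_apply]
    rw [e1, e2, Matrix.smul_mul, Matrix.mul_smul, smul_smul]
    congr 1
    simp [mul_comm]

theorem sigma_comp_single (σ : F ≃+* F) (j : Fin m ⊕ Fin m) :
    σ ∘ (Pi.single j 1 : Vec m F) = Pi.single j 1 := by
  funext k; simp [Pi.single_apply, apply_ite σ]

theorem map_mulVec (σ : F ≃+* F) (M : Mat m F) (v : Vec m F) :
    M.map σ *ᵥ (σ ∘ v) = σ ∘ (M *ᵥ v) := by
  funext i; simp [Matrix.mulVec, dotProduct, map_sum, map_mul]

theorem map_map_sigma_comp (σ : F ≃+* F) (M : Mat m F) (v : Vec m F) (hv : σ ∘ v = v) :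
    σ ∘ (M *ᵥ v) = M.map σ *ᵥ v := by
  conv_rhs => rw [← hv]
  exact (map_mulVec σ M v).symm

variable [Finite F]

/-- Lang's theorem for `GSp`. -/
theorem lang_gsp (hm : 1 ≤ m) (σ : F ≃+* F) (g : ↥(GSp m F))
    (hg : gcocy σ g (orderOf σ) = 1) : ∃ k : ↥(GSp m F), g * gspField σ k = k := by
  classical
  set z : Fin m := ⟨0, by omega⟩
  obtain ⟨h, hh⟩ := exists_of_cocy_eq_one σ g.1 (by rw [← gcocy_coe, hg]; rfl)
  have hh' : ∀ v : Vec m F, (g.1 : Mat m F) *ᵥ ((h : Mat m F).map σ *ᵥ v) = (h : Mat m F) *ᵥ v := by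
    intro v
    rw [mulVec_mulVec]
    exact congrArg (fun A : GL _ F => (A : Mat m F) *ᵥ v) hh
  set μ := multS z g with hμ
  have hσmult : ∀ a : ↥(GSp m F), multS z (gspField σ a) = Units.map σ.toMonoidHom (multS z a) := by
    intro a
    apply Units.ext
    rw [multS_eq_of_cols]
    show _ = σ (multS z a : F)
    rw [multS_eq_of_cols z a, map_neg, map_sympForm, gspField_coe,
      map_map_sigma_comp σ _ _ (sigma_comp_single σ _), map_map_sigma_comp σ _ _ (sigma_comp_single σ _)]
  have hmcocy : ∀ k, multS z (gcocy σ g k) =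
      ∏ i ∈ Finset.range k, Units.map (σ ^ i).toMonoidHom μ := by
    intro k
    induction k with
    | zero => simp [gcocy]
    | succ k ih =>
      rw [gcocy, map_mul, hσmult, ih, Finset.prod_range_succ', map_prod, mul_comm]
      congr 1
      · exact Finset.prod_congr rfl fun i _ => by ext; rw [pow_succ']; rfl
  have hN : normU σ μ = 1 := by
    rw [normU_apply, Fin.prod_univ_eq_prod_range (fun i => Units.map (σ ^ i).toMonoidHom μ), ← hmcocy,
      hg, map_one]
  obtain ⟨y, hy⟩ := hilbert90 σ hN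
  have hy' : (μ : F) * σ (y : F) = y := congrArg Units.val hy
  set K := fixedSub σ
  let inc : (Fin m ⊕ Fin m → K) → Vec m F := fun u i => (u i : F)
  set B' : Vec m F → Vec m F → F := fun u v =>
    (y : F)⁻¹ * sympForm m F ((h : Mat m F) *ᵥ u) ((h : Mat m F) *ᵥ v) with hB'
  have hfix : ∀ u v : Fin m ⊕ Fin m → K, σ (B' (inc u) (inc v)) = B' (inc u) (inc v) := by
    intro u v
    have hu : ∀ w : Fin m ⊕ Fin m → K, σ ∘ inc w = inc w := fun w => funext fun i => (w i).2
    have e1 : sympForm m F ((h : Mat m F) *ᵥ inc u) ((h : Mat m F) *ᵥ inc v) =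
        (μ : F) * σ (sympForm m F ((h : Mat m F) *ᵥ inc u) ((h : Mat m F) *ᵥ inc v)) := by
      rw [map_sympForm, map_map_sigma_comp σ _ _ (hu u), map_map_sigma_comp σ _ _ (hu v),
        ← multS_spec z g, hh', hh']
    simp only [hB', map_mul, map_inv₀]
    have hy0 : (y : F) ≠ 0 := y.ne_zero
    have hσy : σ (y : F) ≠ 0 := by simp
    rw [inv_mul_eq_div, inv_mul_eq_div, div_eq_div_iff hσy hy0]
    conv_lhs => rw [← hy']
    linear_combination -σ (y : F) * e1
  have hsub : ∀ a, a ∈ K ↔ σ a = a := fun a => Iff.rfl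
  let B0 : LinearMap.BilinForm K (Fin m ⊕ Fin m → K) :=
    LinearMap.mk₂ K (fun u v => (⟨B' (inc u) (inc v), (hsub _).mpr (hfix u v)⟩ : K))
      (fun u u' v => Subtype.ext (by
        show B' (inc (u + u')) (inc v) = B' (inc u) (inc v) + B' (inc u') (inc v)
        rw [show inc (u + u') = inc u + inc u' from rfl]
        simp only [hB', mulVec_add, form_add_left, mul_add]))
      (fun a u v => Subtype.ext (by
        show B' (inc (a • u)) (inc v) = (a : F) * B' (inc u) (inc v)
        rw [show inc (a • u) = (a : F) • inc u from rfl]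
        simp only [hB', mulVec_smul, form_smul_left]; ring))
      (fun u v v' => Subtype.ext (by
        show B' (inc u) (inc (v + v')) = B' (inc u) (inc v) + B' (inc u) (inc v')
        rw [show inc (v + v') = inc v + inc v' from rfl]
        simp only [hB', mulVec_add, form_add_right, mul_add]))
      (fun a u v => Subtype.ext (by
        show B' (inc u) (inc (a • v)) = (a : F) * B' (inc u) (inc v)
        rw [show inc (a • v) = (a : F) • inc v from rfl]
        simp only [hB', mulVec_smul, form_smul_right]; ring))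
  have hA : B0.IsAlt := fun u => Subtype.ext (by
    show B' (inc u) (inc u) = 0
    simp [hB', sympForm_self])
  have hB : B0.SeparatingLeft := by
    intro u hu
    have h1 : ∀ x : Vec m F, sympForm m F ((h : Mat m F) *ᵥ inc u) ((h : Mat m F) *ᵥ x) = 0 := by
      intro x
      rw [← Finset.univ_sum_single x, mulVec_sum, ← sympBilin_apply, map_sum]
      refine Finset.sum_eq_zero fun j _ => ?_
      rw [show (Pi.single j (x j) : Vec m F) = x j • Pi.single j 1 by
        rw [← Pi.single_smul', smul_eq_mul, mul_one], mulVec_smul, map_smul, sympBilin_apply]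
      have h2 : B' (inc u) (inc (Pi.single j 1)) = 0 := congrArg Subtype.val (hu (Pi.single j 1))
      rw [show inc (Pi.single j 1) = Pi.single j 1 by
        funext k; by_cases hk : k = j <;> simp [inc, hk]] at h2
      rw [(mul_eq_zero.mp h2).resolve_left (inv_ne_zero y.ne_zero), smul_zero]
    have h3 : (h : Mat m F) *ᵥ inc u = 0 := by
      by_contra hne
      obtain ⟨x, hx⟩ := exists_form_ne_zero hne
      apply hx
      have := h1 (((h⁻¹ : GL _ F) : Mat m F) *ᵥ x)
      rw [mulVec_inv_mulVec] at this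
      rw [sympForm_flip, this, neg_zero]
    funext i
    have := congrFun (congrArg (((h⁻¹ : GL _ F) : Mat m F) *ᵥ ·) h3) i
    simp only [inv_mulVec_mulVec, mulVec_zero] at this
    exact Subtype.ext this
  obtain ⟨c, hc⟩ := exists_symp_cols (m := m) B0 hA hB (by simp)
  obtain ⟨k, hk, -⟩ := exists_similitude (fun j => (h : Mat m F) *ᵥ inc (c j)) y (fun i j => by
    have e := congrArg Subtype.val (hc i j)
    have e2 : ((sympForm m K (Pi.single i 1) (Pi.single j 1) : K) : F) =
        sympForm m F (Pi.single i 1) (Pi.single j 1) := by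
      rw [sympForm_eq_sum, sympForm_eq_sum]
      simp only [AddSubmonoidClass.coe_finsetSum, AddSubgroupClass.coe_sub, MulMemClass.coe_mul]
      refine Finset.sum_congr rfl fun l _ => ?_
      congr 1 <;> congr 1 <;> simp [Pi.single_apply, apply_ite (Subtype.val : K → F)]
    rw [← e2, ← e]
    show _ = (y : F) * ((y : F)⁻¹ * _)
    rw [← mul_assoc, mul_inv_cancel₀ y.ne_zero, one_mul])
  refine ⟨k, Subtype.ext (Units.ext (Matrix.ext_of_mulVec_single fun j => ?_))⟩
  rw [hk, Subgroup.coe_mul, Units.val_mul, ← mulVec_mulVec, gspField_coe,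
    ← map_map_sigma_comp σ _ _ (sigma_comp_single σ j), hk,
    map_map_sigma_comp σ _ _ (funext fun i => (c j i).2), hh']

/-- An element of order dividing `r` in the coset of a standard field automorphism of order `r`. -/
theorem conj_of_pow_eq_one (hm : 1 ≤ m) (σ : F ≃+* F) (g : ↥(GSp m F))
    (h : (conjS g * fieldS σ) ^ orderOf σ = 1) :
    ∃ k : ↥(GSp m F), conjS g * fieldS σ = conjS k * fieldS σ * (conjS k)⁻¹ := by
  rw [conjS_fieldS_pow, pow_orderOf_eq_one, map_one, mul_one] at h
  obtain ⟨c, hc⟩ := eq_scalar_of_conjS_eq_one h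
  rw [gcocy_coe] at hc
  have hfix := scalar_cocy_fixed' hm hc
  obtain ⟨x, hx⟩ := exists_norm_eq σ (c := c⁻¹)
    (by rw [Units.val_inv_eq_inv_val, map_inv₀, hfix])
  set g' := scalarS x * g with hg'
  have hg'1 : gcocy σ g' (orderOf σ) = 1 := by
    apply Subtype.ext; apply Units.ext
    rw [gcocy_coe, hg', Subgroup.coe_mul]
    show (cocy σ (Matrix.GeneralLinearGroup.scalar (Fin m ⊕ Fin m) x * g.1) (orderOf σ) : Mat m F) = _
    rw [cocy_smul_val, hc, ← Fin.prod_univ_eq_prod_range, ← normU_val, hx]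
    ext i j
    simp [Matrix.scalar_apply, Matrix.diagonal_apply, Matrix.one_apply]
  obtain ⟨k, hk⟩ := lang_gsp hm σ g' hg'1
  refine ⟨k, ?_⟩
  have e : conjS g = conjS g' := by rw [hg', map_mul, conjS_scalar, one_mul]
  have hgk : g' = k * (gspField σ k)⁻¹ := eq_mul_inv_of_mul_eq hk
  rw [e, hgk, map_mul, map_inv, mul_assoc (conjS k) (fieldS σ), ← map_inv conjS k,
    fieldS_mul_conjS, map_inv, map_inv]
  group

theorem commute_field_iff (σ : F ≃+* F) (g : ↥(GSp m F)) :
    conjS g ∈ Subgroup.centralizer {fieldS (m := m) σ} ↔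
      ∃ c : Fˣ, (g⁻¹ * gspField σ g).1 = Matrix.GeneralLinearGroup.scalar (Fin m ⊕ Fin m) c := by
  rw [Subgroup.mem_centralizer_singleton_iff, fieldS_mul_conjS, mul_left_inj]
  constructor
  · intro h
    exact eq_scalar_of_conjS_eq_one (by rw [map_mul, map_inv, h, inv_mul_cancel])
  · rintro ⟨c, hc⟩
    have : g⁻¹ * gspField σ g = scalarS c := Subtype.ext hc
    rw [← inv_mul_eq_one, ← map_inv, ← map_mul, this, conjS_scalar]

/-- An element of `PGSp` fixed by a field automorphism comes from a fixed similitude. -/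
theorem exists_fixed_of_commute (hm : 1 ≤ m) (σ : F ≃+* F) (g : ↥(GSp m F))
    (h : conjS g ∈ Subgroup.centralizer {fieldS (m := m) σ}) :
    ∃ x : Fˣ, gspField σ (scalarS x * g) = scalarS x * g := by
  obtain ⟨c, hc⟩ := (commute_field_iff σ g).mp h
  have hg : (g.1 : Mat m F).map σ = (c : F) • (g.1 : Mat m F) := by
    have : gspField σ g = g * scalarS c := by
      rw [← show g⁻¹ * gspField σ g = scalarS c from Subtype.ext hc, mul_inv_cancel_left]
    have e := congrArg (fun a : ↥(GSp m F) => (a.1 : Mat m F)) this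
    simp only [gspField_coe, Subgroup.coe_mul, Units.val_mul] at e
    rw [e]
    ext i j
    simp [scalarS, Matrix.scalar_apply, Matrix.mul_diagonal, mul_comm]
  have hk : ∀ k : ℕ, ∀ i j, (σ ^ k) ((g.1 : Mat m F) i j) =
      (∏ l ∈ Finset.range k, (σ ^ l) (c : F)) * (g.1 : Mat m F) i j := by
    intro k
    induction k with
    | zero => simp
    | succ k ih =>
      intro i j
      have e : σ ((g.1 : Mat m F) i j) = (c : F) * (g.1 : Mat m F) i j := congrFun (congrFun hg i) j
      rw [pow_succ, RingAut.mul_apply, e, map_mul, ih, Finset.prod_range_succ]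
      ring
  have hN : normU σ c = 1 := by
    set z : Fin m := ⟨0, by omega⟩
    obtain ⟨i, hi⟩ : ∃ i, (g.1 : Mat m F) i (Sum.inl z) ≠ 0 := by
      by_contra hall
      push Not at hall
      apply ee_ne_zero (F := F) z
      have h0 : (g.1 : Mat m F) *ᵥ ee z = 0 := by
        rw [ee, Matrix.mulVec_single_one]; funext i; exact hall i
      have := congrArg (((g.1⁻¹ : GL _ F) : Mat m F) *ᵥ ·) h0
      simpa only [inv_mulVec_mulVec, mulVec_zero] using this
    have h1 := hk (orderOf σ) i (Sum.inl z)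
    rw [pow_orderOf_eq_one, ← Fin.prod_univ_eq_prod_range, ← normU_val] at h1
    exact Units.ext (mul_right_cancel₀ hi (h1.symm.trans (by rw [Units.val_one, one_mul]; rfl)))
  obtain ⟨y, hy⟩ := hilbert90 σ hN
  refine ⟨y, Subtype.ext (Units.ext ?_)⟩
  have hy' : (c : F) * σ (y : F) = y := congrArg Units.val hy
  ext i j
  have e : σ ((g.1 : Mat m F) i j) = (c : F) * (g.1 : Mat m F) i j := congrFun (congrFun hg i) j
  simp [gspField_coe, scalarS, Matrix.scalar_apply, Matrix.diagonal_mul, e]
  linear_combination (g.1 : Mat m F) i j * hy'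

theorem mult_centralizer_field (z : Fin m) (σ : F ≃+* F) :
    (powMonoidHom 2 : Fˣ →* Fˣ).range ⊔
      ((Subgroup.centralizer {fieldS (m := m) σ}).comap conjS).map (multS z) =
    (powMonoidHom 2 : Fˣ →* Fˣ).range ⊔ fixedUnits σ := by
  have hm : 1 ≤ m := Fin.pos_iff_nonempty.mpr ⟨z⟩
  apply le_antisymm
  · refine sup_le le_sup_left ?_
    rintro _ ⟨g, hg, rfl⟩
    obtain ⟨x, hx⟩ := exists_fixed_of_commute hm σ g hg
    set g' := scalarS x * g with hg'
    have e : multS z g = (x ^ 2)⁻¹ * multS z g' := by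
      rw [hg', map_mul, multS_scalar, pow_two, inv_mul_cancel_left]
    rw [e]
    refine Subgroup.mul_mem_sup (inv_mem ⟨x, rfl⟩) (mem_fixedUnits.mpr ?_)
    rw [multS_eq_of_cols, map_neg, map_sympForm, map_map_sigma_comp σ _ _ (sigma_comp_single σ _),
      map_map_sigma_comp σ _ _ (sigma_comp_single σ _), ← gspField_coe, hx]
  · refine sup_le le_sup_left ?_
    intro u hu
    apply Subgroup.mem_sup_right
    obtain ⟨d, hd, hdf⟩ := exists_similitude
      (Sum.elim (fun i => (ee i : Vec m F)) (fun i => (u : F) • ff i)) u (by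
        intro i j
        rcases i with i | i <;> rcases j with j | j <;>
          simp [form_smul_left, form_smul_right, form_ee_right, form_ff_right, Pi.single_apply])
    refine ⟨d, (commute_field_iff σ d).mpr ⟨1, ?_⟩, multS_eq z d hdf⟩
    rw [map_one]
    have : gspField σ d = d := by
      apply Subtype.ext; apply Units.ext; apply Matrix.ext_of_mulVec_single
      intro j
      rw [gspField_coe, ← map_map_sigma_comp σ _ _ (sigma_comp_single σ j), hd]
      funext k
      rcases j with j | j <;> simp [Pi.single_apply, apply_ite σ, mem_fixedUnits.mp hu]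
    rw [this, inv_mul_cancel]; rfl

/-- The centralizer in `PGSp` of a standard field automorphism. -/
theorem nonempty_centralizer_field_equiv (hm : 1 ≤ m) (σ : F ≃+* F) {F₀ : Type*} [Field F₀]
    (ι : F₀ →+* F) (hι : ∀ y, σ y = y ↔ ∃ a, ι a = y) :
    Nonempty (↥(Cfsg.inndiagPSp m F ⊓ Subgroup.centralizer {fieldS (m := m) σ}) ≃*
      Cfsg.PGSp m F₀) := by
  classical
  set z : Fin m := ⟨0, by omega⟩
  let M : GL (Fin m ⊕ Fin m) F₀ →* GL (Fin m ⊕ Fin m) F := Matrix.GeneralLinearGroup.map ι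
  have hcomp : ∀ j, ι ∘ (Pi.single j 1 : Vec m F₀) = Pi.single j 1 := fun j => by
    funext k; simp [Pi.single_apply, apply_ite ι]
  have hform : ∀ u v : Vec m F₀, ι (sympForm m F₀ u v) = sympForm m F (ι ∘ u) (ι ∘ v) := by
    intro u v; simp [sympForm_eq_sum, map_sum, map_sub, map_mul]
  have hMv : ∀ (a : GL (Fin m ⊕ Fin m) F₀) (u : Vec m F₀),
      (M a : Mat m F) *ᵥ (ι ∘ u) = ι ∘ ((a : Mat m F₀) *ᵥ u) := by
    intro a u; funext i; simp [M, Matrix.mulVec, dotProduct, map_sum, map_mul]
  have hmem : ∀ a : ↥(GSp m F₀), M a.1 ∈ GSp m F := by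
    intro a
    obtain ⟨g, hg, -⟩ := exists_similitude (fun j => (M a.1 : Mat m F) *ᵥ (Pi.single j 1))
      (Units.map ι.toMonoidHom (multS z a)) (fun i j => by
        rw [← hcomp i, ← hcomp j, hMv, hMv, ← hform, ← hform, multS_spec z a, map_mul]
        rfl)
    have : g.1 = M a.1 := Units.ext (Matrix.ext_of_mulVec_single fun j => hg j)
    exact this ▸ g.2
  let Mg : ↥(GSp m F₀) →* ↥(GSp m F) := (M.comp (GSp m F₀).subtype).codRestrict _ hmem
  have hfixM : ∀ a, gspField σ (Mg a) = Mg a := by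
    intro a
    apply Subtype.ext; apply Units.ext
    ext i j
    exact (hι _).mpr ⟨_, rfl⟩
  let f : ↥(GSp m F₀) →* ↥(Cfsg.inndiagPSp m F ⊓ Subgroup.centralizer {fieldS (m := m) σ}) :=
    (conjS.comp Mg).codRestrict _ fun a => ⟨mem_inndiag_iff.mpr ⟨_, rfl⟩,
      (commute_field_iff σ _).mpr ⟨1, by rw [hfixM, inv_mul_cancel, map_one]; rfl⟩⟩
  have hinj : Function.Injective ι := ι.injective
  have hker : f.ker = (Geo.scalars (Fin m ⊕ Fin m) F₀).subgroupOf (GSp m F₀) := by
    ext a
    rw [MonoidHom.mem_ker, Subgroup.mem_subgroupOf, Geo.mem_scalars_iff]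
    constructor
    · intro h
      obtain ⟨u, hu⟩ := eq_scalar_of_conjS_eq_one (congrArg Subtype.val h)
      have e : ∀ i j, ι ((a.1 : Mat m F₀) i j) = if i = j then (u : F) else 0 := fun i j => by
        have := congrArg (fun g : GL (Fin m ⊕ Fin m) F => (g : Mat m F) i j) hu
        simp only [Matrix.GeneralLinearGroup.coe_scalar, Matrix.scalar_apply,
          Matrix.diagonal_apply] at this
        exact this
      set d := (a.1 : Mat m F₀) (Sum.inl z) (Sum.inl z)
      have hd : ι d = u := by rw [e, if_pos rfl]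
      have hd0 : d ≠ 0 := fun h0 => u.ne_zero (by rw [← hd, h0, map_zero])
      refine ⟨Units.mk0 d hd0, ?_⟩
      ext i j
      apply hinj
      rw [e]
      simp [Matrix.one_apply, apply_ite ι, hd]
    · rintro ⟨u, hu⟩
      apply Subtype.ext
      show conjS (Mg a) = 1
      rw [show Mg a = scalarS (Units.map ι.toMonoidHom u) from Subtype.ext (Units.ext (by
        ext i j
        show ι ((a.1 : Mat m F₀) i j) = _
        rw [hu]
        simp [scalarS, Matrix.one_apply, Matrix.scalar_apply, Matrix.diagonal_apply, apply_ite ι])),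
        conjS_scalar]
  have hsurj : Function.Surjective f := by
    rintro ⟨β, hβ⟩
    obtain ⟨g, rfl⟩ := mem_inndiag_iff.mp hβ.1
    obtain ⟨x, hx⟩ := exists_fixed_of_commute hm σ g hβ.2
    set g' := scalarS x * g with hg'
    have hent : ∀ i j, ∃ a, ι a = (g'.1 : Mat m F) i j := fun i j => (hι _).mp
      (congrArg (fun A : ↥(GSp m F) => (A.1 : Mat m F) i j) hx)
    choose a ha using hent
    have hcol : ∀ j, ι ∘ (fun i => a i j) = (g'.1 : Mat m F) *ᵥ (Pi.single j 1) := fun j => by
      rw [Matrix.mulVec_single_one]; funext i; exact ha i j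
    obtain ⟨μ0, hμ0⟩ : ∃ μ0, ι μ0 = (multS z g' : F) := (hι _).mp (by
      rw [multS_eq_of_cols, map_neg, map_sympForm, map_map_sigma_comp σ _ _ (sigma_comp_single σ _),
        map_map_sigma_comp σ _ _ (sigma_comp_single σ _), ← gspField_coe, hx])
    have hμ00 : μ0 ≠ 0 := fun h0 => (multS z g').ne_zero (by rw [← hμ0, h0, map_zero])
    obtain ⟨g0, hg0, -⟩ := exists_similitude (fun j i => a i j) (Units.mk0 μ0 hμ00) (fun i j => by
      apply hinj
      rw [hform, hcol, hcol, multS_spec z g', map_mul ι, hform, hcomp, hcomp]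
      congr 1
      exact hμ0.symm)
    refine ⟨g0, Subtype.ext ?_⟩
    show conjS (Mg g0) = conjS g
    rw [show Mg g0 = g' from Subtype.ext (Units.ext (Matrix.ext_of_mulVec_single fun j => by
      show (M g0.1 : Mat m F) *ᵥ _ = _
      rw [← hcomp j, hMv, hg0, hcol, hcomp])), hg', map_mul, conjS_scalar, one_mul]
  exact ⟨((QuotientGroup.quotientMulEquivOfEq hker.symm).trans
    (QuotientGroup.quotientKerEquivOfSurjective f hsurj)).symm⟩

end CfsgLib.AutPSp
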