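import Cfsg.Agent.Lib.AutPSp.SpFourTwo
import Cfsg.Agent.Lib.AutPSp.Coset
import Cfsg.Agent.Lib.AutPSL.BalanceCore

/-!
The centralizer of a field automorphism of prime order in an almost simple group with symplectic socle.
-/

set_option autoImplicit false
set_option linter.unusedSectionVars false

namespace CfsgLib.AutPSp

open Matrix Cfsg CfsgLib.Sp CfsgLib.FieldGalois CfsgLib.AutBalance

section Pres

variable {F : Type*} [Field F] [Fintype F] [CharP F 2]

theorem presTel_one {m : ℕ} {F : Type*} [Field F] : PresTel (1 : MulAut (PSpG m F)) :=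
  fun v a => ⟨v, a, rfl⟩

theorem presTel_mul {m : ℕ} {F : Type*} [Field F] {β δ : MulAut (PSpG m F)} (hβ : PresTel β)
    (hδ : PresTel δ) : PresTel (β * δ) := fun v a => by
  obtain ⟨w, b, h⟩ := hδ v a
  obtain ⟨u, c, h'⟩ := hβ w b
  exact ⟨u, c, by rw [MulAut.mul_apply, h, h']⟩

theorem presTel_pow {m : ℕ} {F : Type*} [Field F] {β : MulAut (PSpG m F)} (hβ : PresTel β) (k : ℕ) :
    PresTel (β ^ k) := by
  induction k with
  | zero => exact presTel_one
  | succ k ih => rw [pow_succ]; exact presTel_mul ih hβ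

theorem presTel_inv {m : ℕ} {F : Type*} [Field F] [Finite F] {β : MulAut (PSpG m F)}
    (hβ : PresTel β) : PresTel β⁻¹ := by
  have : β ^ (orderOf β - 1) = β⁻¹ := by
    rw [eq_inv_iff_mul_eq_one, ← pow_succ, Nat.sub_add_cancel (orderOf_pos β), pow_orderOf_eq_one]
  exact this ▸ presTel_pow hβ _

theorem presTel_of_odd {x : MulAut (PSpG 2 F)} {p : ℕ} (hp : Odd p) (hx : x ^ p = 1) : PresTel x := by
  let e : MulAut (SpG 2 F) :=
    MulEquiv.ofBijective graphHom (Finite.injective_iff_bijective.mp graphHom_injective')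
  set γ : MulAut (PSpG 2 F) := CfsgLib.AutPSL.descendAut _ e
  have hγ : ∀ g : SpG 2 F, γ (QuotientGroup.mk g) = (QuotientGroup.mk (graphHom g) : PSpG 2 F) :=
    fun g => rfl
  have hne : ¬ PresTel γ := by
    intro h
    obtain ⟨w, b, hw⟩ := h (ee 0) 1
    rw [tel, tel, hγ] at hw
    exact graphHom_tmat_ne one_ne_zero w b (inv_mul_eq_one.mp (mk_eq_one_char_two CharTwo.two_eq_zero (by
      rw [QuotientGroup.mk_mul, QuotientGroup.mk_inv, hw, inv_mul_cancel])))
  have hsq : PresTel (x * x) := by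
    rcases presTel_or γ hγ x with h | h
    · exact presTel_mul h h
    rcases presTel_or γ hγ (x * x) with h' | h'
    · exact h'
    · exfalso
      apply hne
      have e : γ = (γ⁻¹ * x)⁻¹ * (γ⁻¹ * (x * x)) * (γ⁻¹ * x)⁻¹ := by group
      rw [e]
      exact presTel_mul (presTel_mul (presTel_inv h) h') (presTel_inv h)
  obtain ⟨j, hj⟩ := hp
  have e : x = (x * x) ^ (j + 1) := by
    rw [← pow_two, ← pow_mul, show 2 * (j + 1) = p + 1 by omega, pow_succ, hx, one_mul]
  exact e ▸ presTel_pow hsq _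

end Pres

variable {m : ℕ} {F : Type*} [Field F] [Fintype F]

theorem exists_field_conj (hm : 1 ≤ m) {x : MulAut (PSpG m F)} {p : ℕ} [hp : Fact p.Prime]
    (hord : orderOf x = p) (hnot : ¬ Cfsg.IsInnerDiagonalAutPSp x)
    (hcase : ((2 : F) ≠ 0 ∨ 3 ≤ m) ∨ PresTel x) :
    ∃ (k : ↥(GSp m F)) (σ : F ≃+* F), orderOf σ = p ∧ x = conjS k * fieldS σ * (conjS k)⁻¹ := by
  obtain ⟨g, σ, rfl⟩ := aut_psp_structure_of_pres hm x hcase
  have hσ1 : σ ≠ 1 := by
    rintro rfl
    exact hnot (isInnerDiagonal_iff.mpr ⟨g, by rw [map_one, mul_one]⟩)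
  have h1 : (conjS g * fieldS σ) ^ p = 1 := hord ▸ pow_orderOf_eq_one _
  have hσ : orderOf σ = p := by
    refine orderOf_eq_prime_iff.mpr ⟨?_, hσ1⟩
    have h2 := h1
    rw [conjS_fieldS_pow] at h2
    exact field_eq_one_of_conjS hm (g := (gcocy σ g p)⁻¹) (by
      rw [map_inv]; exact inv_eq_of_mul_eq_one_right h2)
  obtain ⟨k, hk⟩ := conj_of_pow_eq_one hm σ g (by rw [hσ]; exact h1)
  exact ⟨k, σ, hσ, hk⟩

/-- The fixed field's transvection classes determine an automorphism commuting with them. -/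
theorem mem_zpowers_of_fix (hm : 2 ≤ m) (σ : F ≃+* F) (n : MulAut (PSpG m F))
    (hn : ∀ (v : Vec m F) (a : F), σ ∘ v = v → σ a = a → n (tel v a) = tel v a) :
    ∃ τ ∈ Subgroup.zpowers σ, n = fieldS τ := by
  classical
  have hs : ∀ j : Fin m ⊕ Fin m, σ ∘ (Pi.single j 1 : Vec m F) = Pi.single j 1 := fun j => by
    funext k; simp [Pi.single_apply, apply_ite σ]
  have hcase : ((2 : F) ≠ 0 ∨ 3 ≤ m) ∨ PresTel n := by
    by_cases h3 : 3 ≤ m
    · exact Or.inl (Or.inr h3)
    by_cases h2 : (2 : F) = 0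
    · right
      obtain rfl : m = 2 := by omega
      have : CharP F 2 := CharTwo.of_one_ne_zero_of_two_eq_zero one_ne_zero h2
      exact presTel_of_one n ⟨ee 0, 1, hn _ _ (hs _) (map_one σ)⟩
    · exact Or.inl (Or.inl h2)
  obtain ⟨g, τ, rfl⟩ := aut_psp_structure_of_pres (by omega) n hcase
  obtain ⟨c, hc⟩ := g.2
  set z : Fin m := ⟨0, by omega⟩
  have hv : ∀ v : Vec m F, v ≠ 0 → σ ∘ v = v → τ ∘ v = v → ∃ k : F, (g.1 : Mat m F) *ᵥ v = k • v := by
    intro v hv0 hσv hτv
    have e := hn v 1 hσv (map_one σ)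
    rw [MulAut.mul_apply, fieldS_tel, conjS_tel g hc, hτv, map_one, one_mul] at e
    exact exists_smul_of_tel_eq (fun e0 => hv0 (by
      have := congrArg (((g.1⁻¹ : GL (Fin m ⊕ Fin m) F) : Mat m F) *ᵥ ·) e0
      simpa only [inv_mulVec_mulVec, mulVec_zero] using this)) (Units.ne_zero _) e
  have hts : ∀ j : Fin m ⊕ Fin m, τ ∘ (Pi.single j 1 : Vec m F) = Pi.single j 1 := fun j => by
    funext k; simp [Pi.single_apply, apply_ite τ]
  choose k hk using fun j => hv (Pi.single j 1) (by simp) (hs j) (hts j)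
  have hall : ∀ j, k j = k (.inl z) := by
    intro j
    by_cases hj : j = .inl z
    · rw [hj]
    set v : Vec m F := Pi.single j 1 + Pi.single (.inl z) 1 with hvdef
    have e1 : ∀ ρ : F ≃+* F, ρ ∘ v = v := fun ρ => by
      funext l; simp [hvdef, Pi.single_apply, apply_ite ρ]
    obtain ⟨d, hd⟩ := hv v (fun e => by have := congrFun e j; simp [hvdef, hj] at this) (e1 σ) (e1 τ)
    rw [hvdef, mulVec_add, hk, hk] at hd
    have a1 := congrFun hd j
    have a2 := congrFun hd (.inl z)
    simp [hj, Ne.symm hj] at a1 a2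
    rw [a1, a2]
  have hu : k (.inl z) ≠ 0 := fun e0 => by
    have := hk (.inl z)
    rw [e0, zero_smul] at this
    have := congrFun (congrArg (((g.1⁻¹ : GL (Fin m ⊕ Fin m) F) : Mat m F) *ᵥ ·) this) (.inl z)
    simp only [inv_mulVec_mulVec, mulVec_zero] at this
    simp at this
  have hg : g = scalarS (Units.mk0 _ hu) := by
    apply Subtype.ext; apply Units.ext
    apply Matrix.ext_of_mulVec_single
    intro j
    rw [hk, hall]
    show _ = ((Matrix.GeneralLinearGroup.scalar (Fin m ⊕ Fin m) (Units.mk0 _ hu) : GL _ F) : Mat m F) *ᵥ _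
    rw [scalar_mulVec']
    rfl
  have hn' : conjS g * fieldS τ = fieldS τ := by rw [hg, conjS_scalar, one_mul]
  refine ⟨τ, mem_zpowers_of_fixed fun a ha => ?_, hn'⟩
  have e := hn (ee z) a (hs _) ha
  rw [hn', fieldS_tel, hts] at e
  exact tel_injective (ee_ne_zero z) e

theorem card_fixedPts_dvd (hm : 1 ≤ m) (σ : F ≃+* F)
    (hinj : Function.Injective (MulAut.conj : PSpG m F →* MulAut (PSpG m F))) :
    Nat.card (fixedPts (fieldS (m := m) σ)) ∣ Nat.card (SpG m (fixedSub σ)) := by
  classical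
  have := Fintype.ofFinite (fixedSub σ)
  obtain ⟨E⟩ := nonempty_centralizer_field_equiv hm σ (fixedSub σ).subtype
    (fun y => ⟨fun h => ⟨⟨y, h⟩, rfl⟩, fun ⟨a, ha⟩ => ha ▸ a.2⟩)
  have hE : Nat.card (Cfsg.PGSp m (fixedSub σ)) = Nat.card (SpG m (fixedSub σ)) := by
    rw [← card_range_conjS hm]
    have hk : (conjS : ↥(GSp m (fixedSub σ)) →* MulAut (PSpG m (fixedSub σ))).ker =
        (Geo.scalars (Fin m ⊕ Fin m) (fixedSub σ)).subgroupOf (GSp m (fixedSub σ)) := by
      ext g
      rw [MonoidHom.mem_ker, Subgroup.mem_subgroupOf]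
      constructor
      · intro h
        obtain ⟨u, hu⟩ := eq_scalar_of_conjS_eq_one h
        exact ⟨u, hu.symm⟩
      · rintro ⟨u, hu⟩
        rw [show g = scalarS u from Subtype.ext hu.symm, conjS_scalar]
    exact Nat.card_congr ((QuotientGroup.quotientMulEquivOfEq hk.symm).trans
      (QuotientGroup.quotientKerEquivRange _)).toEquiv
  rw [← hE, ← Nat.card_congr E.toEquiv]
  let c : fixedPts (fieldS (m := m) σ) →*
      ↥(Cfsg.inndiagPSp m F ⊓ Subgroup.centralizer {fieldS (m := m) σ}) :=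
    ((MulAut.conj : PSpG m F →* MulAut (PSpG m F)).comp (fixedPts _).subtype).codRestrict _ fun k => by
      refine ⟨?_, conj_mem_centralizer k.2⟩
      obtain ⟨s, hs⟩ := QuotientGroup.mk_surjective k.1
      refine mem_inndiag_iff.mpr ⟨spToGSp s, ?_⟩
      rw [conjS_sp, hs]
      rfl
  exact Subgroup.card_dvd_of_injective c fun a b e => Subtype.ext (hinj (congrArg Subtype.val e))

/-- A noncentral normal subgroup of `Sp_{2m}(q)` contains elements of order `p`. -/
theorem exists_order_of_normal (hm : 2 ≤ m) {p : ℕ} [hp : Fact p.Prime] (hp2 : (2 : F) = 0 → p ≠ 2)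
    (hdvd : p ∣ Nat.card (SpG m F)) (N : Subgroup (SpG m F)) [hN : N.Normal]
    (hne : ¬ N ≤ Subgroup.center (SpG m F)) :
    ∃ y ∈ N, (QuotientGroup.mk y : PSpG m F) ≠ 1 ∧ (QuotientGroup.mk y : PSpG m F) ^ p = 1 := by
  classical
  by_cases hsmall : m = 2 ∧ Fintype.card F = 2
  · obtain ⟨rfl, hq⟩ := hsmall
    have : CharP F 2 := charP_of_card_eq_prime_pow (f := 1) (by rw [hq, pow_one])
    have h2 : (2 : F) = 0 := CharTwo.two_eq_zero
    obtain ⟨e⟩ := CfsgLib.ClassicalGroups.sp_four_two_perm hq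
    set N' := N.map e.toMonoidHom with hN'
    have hNn : N'.Normal := Subgroup.Normal.map hN e.toMonoidHom e.surjective
    have hsimp : IsSimpleGroup (alternatingGroup (Fin 6)) := alternatingGroup.isSimpleGroup (by simp)
    have hAN : alternatingGroup (Fin 6) ≤ N' := by
      rcases (hNn.subgroupOf (alternatingGroup (Fin 6))).eq_bot_or_eq_top with h1 | h1
      · exfalso
        apply hne
        intro g hg
        rw [Subgroup.mem_center_iff]
        intro w
        apply e.injective
        rw [map_mul, map_mul]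
        have hmem : e w * e g * (e w)⁻¹ * (e g)⁻¹ ∈ N' :=
          N'.mul_mem (hNn.conj_mem _ ⟨g, hg, rfl⟩ (e w)) (N'.inv_mem ⟨g, hg, rfl⟩)
        have hA : e w * e g * (e w)⁻¹ * (e g)⁻¹ ∈ alternatingGroup (Fin 6) := by
          rw [Equiv.Perm.mem_alternatingGroup, map_mul, map_mul, map_mul, Equiv.Perm.sign_inv,
            Equiv.Perm.sign_inv]
          rcases Int.units_eq_one_or (Equiv.Perm.sign (e w)) with a | a <;>
            rcases Int.units_eq_one_or (Equiv.Perm.sign (e g)) with b | b <;> simp [a, b]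
        have : (⟨_, hA⟩ : alternatingGroup (Fin 6)) ∈ N'.subgroupOf (alternatingGroup (Fin 6)) := hmem
        rw [h1, Subgroup.mem_bot] at this
        have h3 : e w * e g * (e w)⁻¹ * (e g)⁻¹ = 1 := congrArg Subtype.val this
        calc e w * e g = e w * e g * (e w)⁻¹ * (e g)⁻¹ * (e g * e w) := by group
          _ = e g * e w := by rw [h3, one_mul]
      · exact Subgroup.subgroupOf_eq_top.mp h1
    have h360 : p ∣ Nat.card (alternatingGroup (Fin 6)) := by
      have h720 : p ∣ 720 := by
        rw [Nat.card_congr e.toEquiv, Nat.card_perm, Nat.card_fin] at hdvd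
        exact hdvd
      have hA : 2 * Nat.card (alternatingGroup (Fin 6)) = 720 := by
        rw [Nat.card_eq_fintype_card, two_mul_card_alternatingGroup, Fintype.card_perm, Fintype.card_fin]
        rfl
      rw [← hA] at h720
      exact (hp.out.dvd_mul.mp h720).resolve_left fun h =>
        hp2 h2 ((Nat.prime_dvd_prime_iff_eq hp.out Nat.prime_two).mp h)
    obtain ⟨a, ha⟩ := exists_prime_orderOf_dvd_card' p h360
    obtain ⟨y, hy, hya⟩ := hAN a.2
    have hoy : orderOf y = p := by
      rw [← orderOf_injective e.toMonoidHom e.injective, hya, Subgroup.orderOf_coe, ha]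
    refine ⟨y, hy, fun h => ?_, by rw [← QuotientGroup.mk_pow, ← hoy, pow_orderOf_eq_one]; rfl⟩
    rw [mk_eq_one_char_two h2 h, orderOf_one] at hoy
    exact hp.out.one_lt.ne hoy
  have hperf : commutator (SpG m F) = ⊤ := commutator_eq_top_of_card rfl (by
    have h2 : 2 ≤ Fintype.card F := Fintype.one_lt_card
    push Not at hsmall
    by_cases hm2 : m = 2
    · have := hsmall hm2; omega
    · omega)
  have hS := psp_isSimpleGroup (m := m) (by omega) hperf
  have hsurj := QuotientGroup.mk'_surjective (Subgroup.center (SpG m F))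
  have htop : N.map (QuotientGroup.mk' (Subgroup.center (SpG m F))) = ⊤ :=
    ((Subgroup.Normal.map hN _ hsurj).eq_bot_or_eq_top).resolve_left fun h => hne (by
      rw [Subgroup.map_eq_bot_iff, QuotientGroup.ker_mk'] at h
      exact h)
  suffices hex : ∃ y : PSpG m F, y ≠ 1 ∧ y ^ p = 1 by
    obtain ⟨y, hy1, hyp⟩ := hex
    obtain ⟨z, hz, rfl⟩ : y ∈ N.map (QuotientGroup.mk' (Subgroup.center (SpG m F))) := htop ▸ trivial
    exact ⟨z, hz, hy1, hyp⟩
  by_cases hpe : p = 2
  · have h2 : (2 : F) ≠ 0 := fun h => hp2 h hpe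
    set J : SpG m F := ⟨_, SymplecticGroup.J_mem (Fin m) F⟩
    refine ⟨QuotientGroup.mk J, fun h => ?_, ?_⟩
    · rw [QuotientGroup.eq_one_iff, mem_center_iff] at h
      rcases h with h | h <;>
      · have := congrFun (congrFun h (.inl ⟨0, by omega⟩)) (.inl ⟨0, by omega⟩)
        simp [J, Matrix.J] at this
    · rw [hpe, ← QuotientGroup.mk_pow, QuotientGroup.eq_one_iff, mem_center_iff]
      right
      simp [J, pow_two, Submonoid.coe_mul, Matrix.J_squared]
  · obtain ⟨y, hy⟩ := exists_prime_orderOf_dvd_card' p hdvd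
    refine ⟨QuotientGroup.mk y, fun h => ?_, by rw [← QuotientGroup.mk_pow, ← hy, pow_orderOf_eq_one]; rfl⟩
    rw [QuotientGroup.eq_one_iff, mem_center_iff] at h
    have h' : y ^ 2 = 1 := by
      apply Subtype.ext
      rw [pow_two, Submonoid.coe_mul, Submonoid.coe_one]
      rcases h with h | h <;> simp [h]
    exact hpe ((Nat.prime_dvd_prime_iff_eq hp.out Nat.prime_two).mp (hy ▸ orderOf_dvd_of_pow_eq_one h'))

/-- The fixed points of a field automorphism of prime order have trivial `p'`-core, when `p` divides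
their order. -/
theorem core_fixedPts_eq_bot (hm : 2 ≤ m) {p : ℕ} [hp : Fact p.Prime] (hp2 : (2 : F) = 0 → p ≠ 2)
    (σ : F ≃+* F) (hinj : Function.Injective (MulAut.conj : PSpG m F →* MulAut (PSpG m F)))
    (hdvd : p ∣ Nat.card (fixedPts (fieldS (m := m) σ))) :
    pPrimeCore p (fixedPts (fieldS (m := m) σ)) = ⊥ := by
  classical
  set K := fixedSub σ
  have : Fintype K := Fintype.ofFinite _
  let ι : K →+* F := K.subtype
  have hJ : (Matrix.J (Fin m) K).map ι = Matrix.J (Fin m) F := by
    ext i j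
    rcases i with i | i <;> rcases j with j | j <;>
      simp [Matrix.J, Matrix.one_apply, apply_ite ι]
  let up : SpG m K →* SpG m F := MonoidHom.mk'
    (fun A => ⟨A.1.map ι, by
      rw [SymplecticGroup.mem_iff, ← hJ, ← Matrix.transpose_map, ← Matrix.map_mul, ← Matrix.map_mul,
        SymplecticGroup.mem_iff.mp A.2]⟩)
    fun A B => Subtype.ext (Matrix.map_mul)
  have hfix : ∀ A : SpG m K, fieldS σ (QuotientGroup.mk (up A) : PSpG m F) = QuotientGroup.mk (up A) := by
    intro A
    rw [fieldS_mk]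
    refine congrArg _ (Subtype.ext (Matrix.ext fun i j => ?_))
    exact (A.1 i j).2
  let j : SpG m K →* fixedPts (fieldS (m := m) σ) :=
    ((QuotientGroup.mk' (Subgroup.center (SpG m F))).comp up).codRestrict _ hfix
  have hker : ∀ A ∈ Subgroup.center (SpG m K), j A = 1 := by
    intro A hA
    apply Subtype.ext
    show (QuotientGroup.mk (up A) : PSpG m F) = 1
    rw [QuotientGroup.eq_one_iff, mem_center_iff]
    rcases mem_center_iff.mp hA with h | h
    · left; show A.1.map ι = 1
      rw [h, Matrix.map_one ι (map_zero ι) (map_one ι)]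
    · right; show A.1.map ι = -1
      rw [h]; ext a b; simp [Matrix.one_apply, apply_ite ι]
  have hK2 : (2 : K) = 0 → p ≠ 2 := fun h => hp2 (by
    have := congrArg ι h; rwa [map_ofNat, map_zero] at this)
  set N := pPrimeCore p (fixedPts (fieldS (m := m) σ))
  have hNn : N.Normal := Cfsg.pPrimeCore_normal p _
  have hNc : N.comap j ≤ Subgroup.center (SpG m K) := by
    by_contra hne
    have := hNn.comap j
    obtain ⟨y, hy, hy1, hyp⟩ := exists_order_of_normal hm hK2
      (hdvd.trans (card_fixedPts_dvd (by omega) σ hinj)) (N.comap j) hne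
    have hyc : j y ≠ 1 := by
      intro h
      apply hy1
      have h' : (QuotientGroup.mk (up y) : PSpG m F) = 1 := congrArg Subtype.val h
      rw [QuotientGroup.eq_one_iff, mem_center_iff] at h' ⊢
      rcases h' with h' | h'
      · exact Or.inl (Matrix.map_injective ι.injective
          (h'.trans (Matrix.map_one ι (map_zero ι) (map_one ι)).symm))
      · refine Or.inr (Matrix.map_injective ι.injective (h'.trans ?_))
        ext a b; simp [Matrix.one_apply, apply_ite ι]
    have hjp : (j y) ^ p = 1 := by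
      rw [← map_pow]
      exact hker _ ((QuotientGroup.eq_one_iff _).mp ((QuotientGroup.mk_pow _ y p).trans hyp))
    have ho : orderOf (⟨j y, hy⟩ : N) = p :=
      orderOf_eq_prime (Subtype.ext hjp) fun e => hyc (congrArg Subtype.val e)
    exact CfsgLib.PCore.not_dvd_card_pPrimeCore (ho ▸ orderOf_dvd_natCard _)
  rw [eq_bot_iff]
  intro n hn
  have hcomm : ∀ (v : Vec m F) (a : F), σ ∘ v = v → σ a = a →
      MulAut.conj (n.1 : PSpG m F) (tel v a) = tel v a := by
    intro v a hv ha
    set g : PSpG m F := n.1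
    obtain ⟨s, hs⟩ := QuotientGroup.mk_surjective g
    let v0 : Vec m K := fun i => ⟨v i, congrFun hv i⟩
    have htel : ∀ (w : Vec m K) (b : K), ((j (tmat w b)).1 : PSpG m F) = tel (ι ∘ w) (b : F) := by
      intro w b
      refine congrArg _ (Subtype.ext (Matrix.ext_of_mulVec_single fun l => ?_))
      have hsl : ι ∘ (Pi.single l 1 : Vec m K) = Pi.single l 1 := by
        funext i; simp [Pi.single_apply, apply_ite ι]
      show (sympTransvection m w b).map ι *ᵥ _ = sympTransvection m (ι ∘ w) (b : F) *ᵥ _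
      rw [sympTransvection_mulVec, ← hsl]
      funext i
      have h1 : ((sympTransvection m w b).map ι *ᵥ (ι ∘ (Pi.single l 1 : Vec m K))) i =
          ι ((sympTransvection m w b *ᵥ (Pi.single l 1 : Vec m K)) i) := by
        simp [Matrix.mulVec, dotProduct, map_sum, map_mul]
      rw [h1, sympTransvection_mulVec]
      simp [sympForm_eq_sum, map_sum, map_sub, map_mul]
      exact Or.inl (Or.inl rfl)
    have hcm : n * j (tmat v0 ⟨a, ha⟩) * n⁻¹ * (j (tmat v0 ⟨a, ha⟩))⁻¹ ∈ N := by
      rw [mul_assoc n, mul_assoc n]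
      exact N.mul_mem hn (hNn.conj_mem _ (N.inv_mem hn) _)
    -- the commutator lies in the image of `Sp(K)`
    have hrep : ∃ (w : Vec m K) (b : K),
        n * j (tmat v0 ⟨a, ha⟩) * n⁻¹ = j (tmat w b) := by
      have hgc : conjS (spToGSp s) ∈ Subgroup.centralizer {fieldS (m := m) σ} := by
        rw [conjS_sp, hs]
        exact conj_mem_centralizer n.2
      obtain ⟨x, hx⟩ := exists_fixed_of_commute (by omega) σ (spToGSp s) hgc
      set h := scalarS x * spToGSp s with hh
      have hconj : conjS h = MulAut.conj g := by rw [hh, map_mul, conjS_scalar, one_mul, conjS_sp, hs]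
      obtain ⟨c, hc⟩ := h.2
      have hent : ∀ i l, σ ((h.1 : Mat m F) i l) = (h.1 : Mat m F) i l := fun i l => by
        have := congrArg (fun A : ↥(GSp m F) => (A.1 : Mat m F) i l) hx
        simpa [gspField_coe] using this
      have hcσ : σ (c : F) = (c : F) := by
        set z : Fin m := ⟨0, by omega⟩
        have e := hc (ee z) (ff z)
        have hez : sympForm m F (ee z : Vec m F) (ff z) = -1 := by simp [form_ff_right]
        have e' := congrArg σ e
        rw [hez, map_sympForm, map_map_sigma_comp σ _ _ (sigma_comp_single σ _),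
          map_map_sigma_comp σ _ _ (sigma_comp_single σ _),
          show (h.1 : Mat m F).map σ = (h.1 : Mat m F) from Matrix.ext hent, e, hez] at e'
        simpa using e'.symm
      refine ⟨fun i => ⟨((h.1 : Mat m F) *ᵥ v) i, ?_⟩, ⟨a * ((c⁻¹ : Fˣ) : F), ?_⟩, Subtype.ext ?_⟩
      · show σ _ = _
        simp [Matrix.mulVec, dotProduct, map_sum, map_mul, hent, show ∀ i, σ (v i) = v i from congrFun hv]
      · show σ _ = _
        rw [map_mul, ha, Units.val_inv_eq_inv_val, map_inv₀, hcσ]
        rfl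
      · show g * (j (tmat v0 ⟨a, ha⟩)).1 * g⁻¹ = _
        rw [htel, htel, ← MulAut.conj_apply, ← hconj]
        exact conjS_tel h hc v a
    obtain ⟨w, b, hwb⟩ := hrep
    rw [hwb, ← map_inv, ← map_mul] at hcm
    have h1 := hker _ (hNc hcm)
    rw [map_mul, map_inv, mul_inv_eq_one, ← hwb] at h1
    have h2 := congrArg Subtype.val h1
    rw [MulAut.conj_apply]
    calc g * tel v a * g⁻¹ = g * (j (tmat v0 ⟨a, ha⟩)).1 * g⁻¹ := by rw [htel]; rfl
      _ = (j (tmat v0 ⟨a, ha⟩)).1 := h2
      _ = tel v a := by rw [htel]; rfl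
  obtain ⟨τ, -, hτ⟩ := mem_zpowers_of_fix hm σ _ hcomm
  obtain ⟨s, hs⟩ := QuotientGroup.mk_surjective (n.1 : PSpG m F)
  have hτ1 : τ = 1 := field_eq_one_of_conjS (by omega) (g := spToGSp s) (by rw [conjS_sp, hs, hτ])
  rw [hτ1, map_one] at hτ
  rw [Subgroup.mem_bot]
  exact Subtype.ext (hinj (hτ.trans (map_one _).symm))

end CfsgLib.AutPSp
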