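import Cfsg.Prelude.Def_LieTypeDatum
import Cfsg.Agent.Lib.Sp.Group
import Cfsg.Agent.Lib.AutPSL.Basic

/-!
Automorphisms of `PSp_{2m}(F)` induced by similitudes and field automorphisms; transvections in
`PSp_{2m}(F)`.
-/

set_option autoImplicit false

namespace CfsgLib.AutPSp

open Matrix Cfsg CfsgLib.Sp

variable {m : ℕ} {F : Type*} [Field F]

abbrev SpG (m : ℕ) (F : Type*) [Field F] := Matrix.symplecticGroup (Fin m) F
abbrev Vec (m : ℕ) (F : Type*) [Field F] := Fin m ⊕ Fin m → F
abbrev Mat (m : ℕ) (F : Type*) [Field F] := Matrix (Fin m ⊕ Fin m) (Fin m ⊕ Fin m) F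
abbrev PSpG (m : ℕ) (F : Type*) [Field F] := Cfsg.PSp m F

/-- The `i`-th vector of the first Lagrangian. -/
abbrev ee (i : Fin m) : Vec m F := Pi.single (Sum.inl i) 1
/-- The `i`-th vector of the second Lagrangian. -/
abbrev ff (i : Fin m) : Vec m F := Pi.single (Sum.inr i) 1

theorem form_ee_right (u : Vec m F) (i : Fin m) : sympForm m F u (ee i) = u (.inr i) := by
  rw [sympForm_eq_sum, Finset.sum_eq_single i] <;> simp +contextual [ee]

theorem form_ff_right (u : Vec m F) (i : Fin m) : sympForm m F u (ff i) = -u (.inl i) := by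
  rw [sympForm_eq_sum, Finset.sum_eq_single i] <;> simp +contextual [ff]

theorem form_add_left (u u' v : Vec m F) :
    sympForm m F (u + u') v = sympForm m F u v + sympForm m F u' v := by
  simp only [← sympBilin_apply, map_add, LinearMap.add_apply]

theorem form_add_right (u v v' : Vec m F) :
    sympForm m F u (v + v') = sympForm m F u v + sympForm m F u v' := by
  simp only [← sympBilin_apply, map_add]

theorem form_smul_left (a : F) (u v : Vec m F) :
    sympForm m F (a • u) v = a * sympForm m F u v := by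
  simp only [← sympBilin_apply, map_smul, LinearMap.smul_apply, smul_eq_mul]

theorem form_smul_right (a : F) (u v : Vec m F) :
    sympForm m F u (a • v) = a * sympForm m F u v := by
  simp only [← sympBilin_apply, map_smul, smul_eq_mul]

theorem exists_form_ne_zero {v : Vec m F} (hv : v ≠ 0) : ∃ x, sympForm m F x v ≠ 0 := by
  by_contra h
  push Not at h
  apply hv
  funext j
  cases j with
  | inl i =>
    have := h (ff i)
    rw [sympForm_flip v (ff i), form_ff_right, neg_neg] at this
    exact this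
  | inr i =>
    have := h (ee i)
    rw [sympForm_flip v (ee i), form_ee_right, neg_eq_zero] at this
    exact this

theorem ee_ne_zero (i : Fin m) : (ee i : Vec m F) ≠ 0 := by simp

theorem ff_ne_zero (i : Fin m) : (ff i : Vec m F) ≠ 0 := by simp

/-- The image of the symplectic group in `GL`. -/
def spToGL : SpG m F →* GL (Fin m ⊕ Fin m) F :=
  MonoidHom.toHomUnits (Matrix.symplecticGroup (Fin m) F).subtype

theorem spToGL_coe (A : SpG m F) :
    (spToGL A : Matrix (Fin m ⊕ Fin m) (Fin m ⊕ Fin m) F) = A.1 := rfl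

theorem spToGL_mem (A : SpG m F) : spToGL A ∈ GSp m F :=
  ⟨1, fun u v => by rw [spToGL_coe, sympForm_mulVec, Units.val_one, one_mul]⟩

/-- The symplectic group inside the group of similitudes. -/
def spToGSp : SpG m F →* ↥(GSp m F) := spToGL.codRestrict _ spToGL_mem

theorem spToGSp_coe (A : SpG m F) : ((spToGSp A : ↥(GSp m F)) : GL (Fin m ⊕ Fin m) F) = spToGL A := rfl

theorem inv_mulVec_mulVec (g : GL (Fin m ⊕ Fin m) F) (v : Vec m F) :
    ((g⁻¹ : GL (Fin m ⊕ Fin m) F) : Mat m F) *ᵥ ((g : Mat m F) *ᵥ v) = v := by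
  rw [mulVec_mulVec, ← Units.val_mul, inv_mul_cancel, Units.val_one, one_mulVec]

theorem mulVec_inv_mulVec (g : GL (Fin m ⊕ Fin m) F) (v : Vec m F) :
    (g : Mat m F) *ᵥ (((g⁻¹ : GL (Fin m ⊕ Fin m) F) : Mat m F) *ᵥ v) = v := by
  rw [mulVec_mulVec, ← Units.val_mul, mul_inv_cancel, Units.val_one, one_mulVec]

theorem gsp_conj_mem (g : ↥(GSp m F)) (A : SpG m F) :
    (g.1 : Mat m F) * A.1 * ((g.1⁻¹ : GL (Fin m ⊕ Fin m) F) : Mat m F) ∈
      Matrix.symplecticGroup (Fin m) F := by
  rw [mem_symplecticGroup_iff]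
  intro u v
  obtain ⟨c, hc⟩ := g.2
  rw [← mulVec_mulVec, ← mulVec_mulVec, ← mulVec_mulVec, ← mulVec_mulVec, hc, sympForm_mulVec, ← hc,
    mulVec_inv_mulVec, mulVec_inv_mulVec]

def spConjFun (g : ↥(GSp m F)) (A : SpG m F) : SpG m F := ⟨_, gsp_conj_mem g A⟩

theorem spConjFun_mul (g h : ↥(GSp m F)) (A : SpG m F) :
    spConjFun (g * h) A = spConjFun g (spConjFun h A) := by
  apply Subtype.ext
  simp [spConjFun, mul_assoc]

theorem spConjFun_one (A : SpG m F) : spConjFun 1 A = A := by
  apply Subtype.ext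
  simp [spConjFun]

def spConjEquiv (g : ↥(GSp m F)) : MulAut (SpG m F) where
  toFun := spConjFun g
  invFun := spConjFun g⁻¹
  left_inv s := by rw [← spConjFun_mul, inv_mul_cancel, spConjFun_one]
  right_inv s := by rw [← spConjFun_mul, mul_inv_cancel, spConjFun_one]
  map_mul' s t := by
    apply Subtype.ext
    show (g.1 : Mat m F) * (s.1 * t.1) * _ = (_ * s.1 * _) * (_ * t.1 * _)
    simp [mul_assoc]

def spConj : ↥(GSp m F) →* MulAut (SpG m F) where
  toFun := spConjEquiv
  map_one' := MulEquiv.ext spConjFun_one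
  map_mul' g h := MulEquiv.ext (spConjFun_mul g h)

theorem spConj_coe (g : ↥(GSp m F)) (A : SpG m F) :
    (spConj g A).1 = (g.1 : Mat m F) * A.1 *
      ((g.1⁻¹ : GL (Fin m ⊕ Fin m) F) : Mat m F) := rfl

theorem map_mem_symplectic (σ : F ≃+* F) {A : Matrix (Fin m ⊕ Fin m) (Fin m ⊕ Fin m) F}
    (hA : A ∈ Matrix.symplecticGroup (Fin m) F) : A.map σ ∈ Matrix.symplecticGroup (Fin m) F := by
  rw [SymplecticGroup.mem_iff] at hA ⊢
  have hJ : (Matrix.J (Fin m) F).map σ = Matrix.J (Fin m) F := by
    ext i j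
    rcases i with i | i <;> rcases j with j | j <;>
      simp [Matrix.J, Matrix.one_apply, apply_ite σ]
  have h := congrArg (fun M : Matrix (Fin m ⊕ Fin m) (Fin m ⊕ Fin m) F => M.map σ) hA
  simpa [Matrix.map_mul, hJ, Matrix.transpose_map] using h

def spFieldEquiv (σ : F ≃+* F) : MulAut (SpG m F) where
  toFun A := ⟨A.1.map σ, map_mem_symplectic σ A.2⟩
  invFun A := ⟨A.1.map σ.symm, map_mem_symplectic σ.symm A.2⟩
  left_inv s := by apply Subtype.ext; ext i j; simp
  right_inv s := by apply Subtype.ext; ext i j; simp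
  map_mul' s t := by
    apply Subtype.ext
    show (s.1 * t.1).map σ = s.1.map σ * t.1.map σ
    exact Matrix.map_mul

def spField : (F ≃+* F) →* MulAut (SpG m F) where
  toFun := spFieldEquiv
  map_one' := by ext s; rfl
  map_mul' a b := by ext s; rfl

theorem spField_coe (σ : F ≃+* F) (A : SpG m F) : (spField σ A).1 = A.1.map σ := rfl

noncomputable def conjS : ↥(GSp m F) →* MulAut (PSpG m F) :=
  (CfsgLib.AutPSL.descendAut _).comp spConj

noncomputable def fieldS : (F ≃+* F) →* MulAut (PSpG m F) :=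
  (CfsgLib.AutPSL.descendAut _).comp spField

theorem conjS_mk (g : ↥(GSp m F)) (A : SpG m F) :
    conjS g (QuotientGroup.mk A : PSpG m F) = QuotientGroup.mk (spConj g A) := rfl

theorem fieldS_mk (σ : F ≃+* F) (A : SpG m F) :
    fieldS σ (QuotientGroup.mk A : PSpG m F) = QuotientGroup.mk (spField σ A) := rfl

/-- Conjugation by an element of `Sp` is inner. -/
theorem conjS_sp (A : SpG m F) : conjS (spToGSp A) = MulAut.conj (QuotientGroup.mk A : PSpG m F) := by
  apply MulEquiv.ext
  intro x
  induction x using QuotientGroup.induction_on with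
  | H t =>
    rw [conjS_mk, MulAut.conj_apply, ← QuotientGroup.mk_inv, ← QuotientGroup.mk_mul,
      ← QuotientGroup.mk_mul]
    refine congrArg _ (Subtype.ext ?_)
    rw [spConj_coe, spToGSp_coe, ← map_inv spToGL]
    rfl

theorem map_sympForm (σ : F ≃+* F) (u v : Vec m F) :
    σ (sympForm m F u v) = sympForm m F (σ ∘ u) (σ ∘ v) := by
  simp [sympForm_eq_sum, map_sum, map_sub, map_mul]

theorem glField_mem (σ : F ≃+* F) (g : ↥(GSp m F)) :
    Matrix.GeneralLinearGroup.map σ.toRingHom g.1 ∈ GSp m F := by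
  obtain ⟨c, hc⟩ := g.2
  refine ⟨Units.map σ.toMonoidHom c, fun u v => ?_⟩
  have hv : ∀ w : Vec m F, (Matrix.GeneralLinearGroup.map σ.toRingHom g.1 : GL _ F).1 *ᵥ w =
      σ ∘ ((g.1 : Mat m F) *ᵥ (σ.symm ∘ w)) := by
    intro w
    funext i
    simp [Matrix.mulVec, dotProduct, map_sum, map_mul]
  rw [hv, hv, ← map_sympForm, hc, map_mul, map_sympForm]
  simp [Function.comp_def]

/-- Field automorphisms act on similitudes. -/
def gspField (σ : F ≃+* F) : ↥(GSp m F) →* ↥(GSp m F) :=
  ((Matrix.GeneralLinearGroup.map σ.toRingHom).comp (GSp m F).subtype).codRestrict _ (glField_mem σ)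

theorem gspField_coe (σ : F ≃+* F) (g : ↥(GSp m F)) :
    ((gspField σ g).1 : Mat m F) = (g.1 : Mat m F).map σ := rfl

theorem fieldS_mul_conjS (σ : F ≃+* F) (g : ↥(GSp m F)) :
    fieldS σ * conjS g = conjS (gspField σ g) * fieldS σ := by
  rw [fieldS, conjS]
  simp only [MonoidHom.comp_apply, ← map_mul]
  congr 1
  apply MulEquiv.ext; intro s; apply Subtype.ext
  show ((g.1 : Mat m F) * s.1 * _).map σ = _ * (s.1.map σ) * _
  rw [Matrix.map_mul, Matrix.map_mul, gspField_coe]
  have h : ((gspField σ g).1)⁻¹ = Matrix.GeneralLinearGroup.map σ.toRingHom g.1⁻¹ := (map_inv _ _).symm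
  rw [h]
  rfl

/-! ### Transvections -/

/-- The class of a transvection. -/
def tel (v : Vec m F) (a : F) : PSpG m F := QuotientGroup.mk (tmat v a)

theorem tel_add (v : Vec m F) (a b : F) : tel v (a + b) = tel v a * tel v b := by
  rw [tel, ← tmat_mul]; rfl

theorem tel_zero (v : Vec m F) : tel v (0 : F) = 1 := by rw [tel, tmat_zero]; rfl

theorem tel_smul (v : Vec m F) (c a : F) : tel (c • v) a = tel v (a * c * c) := by
  rw [tel, tel, tmat_smul]

theorem tel_conj_sp (A : SpG m F) (v : Vec m F) (a : F) :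
    MulAut.conj (QuotientGroup.mk A : PSpG m F) (tel v a) = tel (A.1 *ᵥ v) a := by
  rw [MulAut.conj_apply, tel, tel, ← QuotientGroup.mk_inv, ← QuotientGroup.mk_mul,
    ← QuotientGroup.mk_mul, conj_tmat]

theorem conjS_tel (g : ↥(GSp m F)) {c : Fˣ}
    (hc : ∀ u v, sympForm m F ((g.1 : Mat m F) *ᵥ u) ((g.1 : Mat m F) *ᵥ v) =
      (c : F) * sympForm m F u v) (v : Vec m F) (a : F) :
    conjS g (tel v a) = tel ((g.1 : Mat m F) *ᵥ v) (a * ((c⁻¹ : Fˣ) : F)) := by
  rw [tel, conjS_mk, tel]
  refine congrArg _ (Subtype.ext (Matrix.ext_of_mulVec_single fun j => ?_))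
  generalize (Pi.single j 1 : Vec m F) = x
  rw [spConj_coe, ← mulVec_mulVec, ← mulVec_mulVec]
  show (g.1 : Mat m F) *ᵥ (sympTransvection m v a *ᵥ _) = sympTransvection m _ _ *ᵥ x
  rw [sympTransvection_mulVec, sympTransvection_mulVec, mulVec_add, mulVec_inv_mulVec, mulVec_smul]
  congr 2
  have h := hc (((g.1⁻¹ : GL (Fin m ⊕ Fin m) F) : Mat m F) *ᵥ x) v
  rw [mulVec_inv_mulVec] at h
  rw [h, Units.val_inv_eq_inv_val]
  field_simp

theorem fieldS_tel (σ : F ≃+* F) (v : Vec m F) (a : F) :
    fieldS σ (tel v a) = tel (σ ∘ v) (σ a) := by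
  rw [tel, fieldS_mk, tel]
  refine congrArg _ (Subtype.ext ?_)
  show (sympTransvection m v a).map σ = sympTransvection m (σ ∘ v) (σ a)
  apply Matrix.ext_of_mulVec_single
  intro j
  have e : (σ ∘ (Pi.single j 1 : Vec m F)) = Pi.single j 1 := by
    ext k; simp [Pi.single_apply, apply_ite σ]
  have h : ∀ x : Vec m F, (sympTransvection m v a).map σ *ᵥ (σ ∘ x) =
      σ ∘ (sympTransvection m v a *ᵥ x) := by
    intro x; funext i; simp [Matrix.mulVec, dotProduct, map_sum, map_mul]
  rw [← e, h, sympTransvection_mulVec, sympTransvection_mulVec, ← map_sympForm]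
  funext k
  simp

/-- Two elements of `Sp` have equal classes iff they agree up to sign. -/
theorem mk_eq_iff {A B : SpG m F} :
    (QuotientGroup.mk A : PSpG m F) = QuotientGroup.mk B ↔
      ∃ z : F, (z = 1 ∨ z = -1) ∧ z • A.1 = B.1 := by
  rw [QuotientGroup.eq, mem_center_iff]
  have hAB : A.1 * (A⁻¹ * B : SpG m F).1 = B.1 := by
    rw [← Submonoid.coe_mul, mul_inv_cancel_left]
  constructor
  · rintro (h | h) <;> rw [h] at hAB
    · exact ⟨1, Or.inl rfl, by rw [one_smul]; simpa using hAB⟩
    · exact ⟨-1, Or.inr rfl, by rw [neg_smul, one_smul]; simpa using hAB⟩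
  · rintro ⟨z, (rfl | rfl), hz⟩
    · left
      rw [Submonoid.coe_mul, ← hz, one_smul, ← Submonoid.coe_mul, inv_mul_cancel, Submonoid.coe_one]
    · right
      rw [Submonoid.coe_mul, ← hz, neg_smul, one_smul, mul_neg, ← Submonoid.coe_mul, inv_mul_cancel,
        Submonoid.coe_one]

/-- A sign times a transvection, viewed on vectors. -/
theorem tel_eq_iff_vec {v w : Vec m F} {a b : F} (hv : v ≠ 0) (ha : a ≠ 0) :
    tel v a = tel w b ↔ ∀ x, (a * sympForm m F x v) • v = (b * sympForm m F x w) • w := by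
  constructor
  · intro h
    obtain ⟨z, hz, he⟩ := mk_eq_iff.mp h
    have hx : ∀ x, z • (x + (a * sympForm m F x v) • v) = x + (b * sympForm m F x w) • w := by
      intro x
      have := congrArg (fun M => M *ᵥ x) he
      simpa [tmat, smul_mulVec, sympTransvection_mulVec] using this
    have h1 := hx v
    rw [sympForm_self, mul_zero, zero_smul, add_zero] at h1
    have hz1 : z = 1 := by
      by_contra hne
      -- then `v` is a multiple of `w`, hence fixed by the right-hand side
      have h2 : (z - 1) • v = (b * sympForm m F v w) • w := by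
        rw [sub_smul, one_smul, h1, add_sub_cancel_left]
      have h3 : v = ((z - 1)⁻¹ * (b * sympForm m F v w)) • w := by
        rw [mul_smul, ← h2, smul_smul, inv_mul_cancel₀ (sub_ne_zero.mpr hne), one_smul]
      have h4 : sympForm m F v w = 0 := by
        conv_lhs => rw [h3]
        rw [form_smul_left, sympForm_self, mul_zero]
      rw [h4, mul_zero, mul_zero, zero_smul] at h3
      exact hv h3
    intro x
    have := hx x
    rw [hz1, one_smul, add_right_inj] at this
    exact this
  · intro h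
    refine congrArg _ (Subtype.ext (Matrix.ext_of_mulVec_single fun j => ?_))
    show sympTransvection m v a *ᵥ _ = sympTransvection m w b *ᵥ _
    rw [sympTransvection_mulVec, sympTransvection_mulVec, h]

theorem tel_ne_one {v : Vec m F} {a : F} (hv : v ≠ 0) (ha : a ≠ 0) : tel v a ≠ 1 := by
  intro h
  rw [← tel_zero v] at h
  obtain ⟨x, hx⟩ := exists_form_ne_zero hv
  have := (tel_eq_iff_vec hv ha).mp h x
  rw [zero_mul, zero_smul, smul_eq_zero] at this
  rcases this with h1 | h1
  · exact mul_ne_zero ha hx h1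
  · exact hv h1

theorem tel_injective {v : Vec m F} (hv : v ≠ 0) : Function.Injective (tel v) := by
  intro a b hab
  by_contra hne
  apply tel_ne_one hv (sub_ne_zero.mpr hne)
  have h2 := tel_add v (a - b) b
  rw [sub_add_cancel, hab] at h2
  exact mul_eq_right.mp h2.symm

/-- Transvection classes in the same group span the same line. -/
theorem exists_smul_of_tel_eq {v w : Vec m F} {a b : F} (hv : v ≠ 0) (ha : a ≠ 0)
    (h : tel v a = tel w b) : ∃ c : F, v = c • w := by
  obtain ⟨x, hx⟩ := exists_form_ne_zero hv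
  have := (tel_eq_iff_vec hv ha).mp h x
  refine ⟨(a * sympForm m F x v)⁻¹ * (b * sympForm m F x w), ?_⟩
  rw [mul_smul, ← this, smul_smul, inv_mul_cancel₀ (mul_ne_zero ha hx), one_smul]

theorem commute_tel_iff {v w : Vec m F} {a b : F} (hv : v ≠ 0) (hw : w ≠ 0) (ha : a ≠ 0) (hb : b ≠ 0) :
    Commute (tel v a) (tel w b) ↔ sympForm m F v w = 0 := by
  constructor
  · intro hc
    have h1 : MulAut.conj (tel v a) (tel w b) = tel w b := by
      rw [MulAut.conj_apply, hc.eq, mul_inv_cancel_right]
    rw [tel, ← tel, show tel v a = (QuotientGroup.mk (tmat v a) : PSpG m F) from rfl,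
      tel_conj_sp] at h1
    set w' := (tmat v a).1 *ᵥ w with hw'
    have hw'e : w' = w + (a * sympForm m F w v) • v := sympTransvection_mulVec v a w
    have hw'0 : w' ≠ 0 := by
      intro h0
      rw [h0] at h1
      apply tel_ne_one hw hb
      rw [← h1, tel, show tmat (0 : Vec m F) b = 1 from Subtype.ext (Matrix.ext_of_mulVec_single
        fun j => by simp [tmat, sympTransvection_mulVec, -Matrix.mulVec_single])]
      rfl
    obtain ⟨c, hcw⟩ := exists_smul_of_tel_eq hw'0 hb h1
    by_contra hne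
    have hne' : sympForm m F w v ≠ 0 := by rw [sympForm_flip]; simpa using hne
    have e : (a * sympForm m F w v) • v = (c - 1) • w := by
      rw [sub_smul, one_smul, ← hcw, hw'e, add_sub_cancel_left]
    have e2 := congrArg (fun x => sympForm m F x w) e
    simp only [form_smul_left, sympForm_self, mul_zero] at e2
    exact mul_ne_zero (mul_ne_zero ha hne') hne e2
  · intro h
    have : Commute (tmat v a) (tmat w b) := by
      apply Subtype.ext
      apply Matrix.ext_of_mulVec_single
      intro j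
      have h' : sympForm m F w v = 0 := by rw [sympForm_flip, h, neg_zero]
      show (sympTransvection m v a * sympTransvection m w b) *ᵥ _ =
        (sympTransvection m w b * sympTransvection m v a) *ᵥ _
      simp only [← mulVec_mulVec, sympTransvection_mulVec, form_add_left, form_smul_left, h, h',
        mul_zero, add_zero]
      module
    exact this.map (QuotientGroup.mk' _)

/-- Automorphisms agreeing on all transvections are equal. -/
theorem aut_ext_gen {β β' : MulAut (PSpG m F)} {H : Subgroup (SpG m F)} (hH : H = ⊤)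
    (h : ∀ A ∈ H, β (QuotientGroup.mk A) = β' (QuotientGroup.mk A)) : β = β' := by
  apply MulEquiv.ext
  intro x
  induction x using QuotientGroup.induction_on with
  | H z => exact h z (hH ▸ Subgroup.mem_top z)

end CfsgLib.AutPSp
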