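import Cfsg.Agent.Lib.AutPSp.Gen
import Cfsg.Prelude.Def_KGroupFacts

/-!
The multiplier of a similitude, the kernel of `GSp_{2m}(F) → Aut(PSp_{2m}(F))`, and the predicates
of `Def_LieTypeDatum` in terms of `conjS`, `fieldS`.
-/

set_option autoImplicit false

namespace CfsgLib.AutPSp

open Matrix Cfsg CfsgLib.Sp

variable {m : ℕ} {F : Type*} [Field F]

theorem mult_unique (z : Fin m) {g : Mat m F} {c : F}
    (hc : ∀ u v, sympForm m F (g *ᵥ u) (g *ᵥ v) = c * sympForm m F u v) :
    c = -sympForm m F (g *ᵥ ee z) (g *ᵥ ff z) := by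
  rw [hc, form_ff_right]; simp

/-- The multiplier of a similitude. -/
noncomputable def multS (z : Fin m) : ↥(GSp m F) →* Fˣ where
  toFun g := g.2.choose
  map_one' := by
    apply Units.ext
    have h : ∀ u v, sympForm m F (((1 : ↥(GSp m F)).1 : Mat m F) *ᵥ u)
        (((1 : ↥(GSp m F)).1 : Mat m F) *ᵥ v) =
        (((1 : ↥(GSp m F)).2.choose : Fˣ) : F) * sympForm m F u v := (1 : ↥(GSp m F)).2.choose_spec
    rw [mult_unique z h]
    simp [form_ff_right, -Matrix.mulVec_single, -Matrix.mulVec_single_one]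
  map_mul' a b := by
    apply Units.ext
    have hab : ∀ u v, sympForm m F (((a * b).1 : Mat m F) *ᵥ u) (((a * b).1 : Mat m F) *ᵥ v) =
        (((a * b).2.choose : Fˣ) : F) * sympForm m F u v := (a * b).2.choose_spec
    have ha : ∀ u v, sympForm m F ((a.1 : Mat m F) *ᵥ u) ((a.1 : Mat m F) *ᵥ v) =
        ((a.2.choose : Fˣ) : F) * sympForm m F u v := a.2.choose_spec
    have hb : ∀ u v, sympForm m F ((b.1 : Mat m F) *ᵥ u) ((b.1 : Mat m F) *ᵥ v) =
        ((b.2.choose : Fˣ) : F) * sympForm m F u v := b.2.choose_spec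
    rw [Units.val_mul, mult_unique z hab, Subgroup.coe_mul, Units.val_mul, ← mulVec_mulVec,
      ← mulVec_mulVec, ha, hb, form_ff_right]
    simp

theorem multS_spec (z : Fin m) (g : ↥(GSp m F)) (u v : Vec m F) :
    sympForm m F ((g.1 : Mat m F) *ᵥ u) ((g.1 : Mat m F) *ᵥ v) =
      (multS z g : F) * sympForm m F u v :=
  g.2.choose_spec u v

theorem multS_eq (z : Fin m) (g : ↥(GSp m F)) {c : Fˣ}
    (hc : ∀ u v, sympForm m F ((g.1 : Mat m F) *ᵥ u) ((g.1 : Mat m F) *ᵥ v) =
      (c : F) * sympForm m F u v) : multS z g = c :=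
  Units.ext ((mult_unique z (multS_spec z g)).trans (mult_unique z hc).symm)

theorem multS_eq_of_cols (z : Fin m) (g : ↥(GSp m F)) :
    (multS z g : F) = -sympForm m F ((g.1 : Mat m F) *ᵥ ee z) ((g.1 : Mat m F) *ᵥ ff z) :=
  mult_unique z (multS_spec z g)

theorem scalar_mulVec' (u : Fˣ) (v : Vec m F) :
    (Matrix.GeneralLinearGroup.scalar (Fin m ⊕ Fin m) u : Mat m F) *ᵥ v = (u : F) • v := by
  funext i
  simp [Matrix.GeneralLinearGroup.coe_scalar, Matrix.scalar_apply, Matrix.mulVec_diagonal]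

/-- A scalar matrix as a similitude. -/
def scalarS (u : Fˣ) : ↥(GSp m F) :=
  ⟨Matrix.GeneralLinearGroup.scalar (Fin m ⊕ Fin m) u, u * u, fun v w => by
    rw [scalar_mulVec', scalar_mulVec', form_smul_left, form_smul_right, Units.val_mul, mul_assoc]⟩

theorem multS_scalar (z : Fin m) (u : Fˣ) : multS z (scalarS (m := m) u) = u * u :=
  multS_eq z _ fun v w => by
    show sympForm m F ((Matrix.GeneralLinearGroup.scalar (Fin m ⊕ Fin m) u : Mat m F) *ᵥ v)
      ((Matrix.GeneralLinearGroup.scalar (Fin m ⊕ Fin m) u : Mat m F) *ᵥ w) = _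
    rw [scalar_mulVec', scalar_mulVec', form_smul_left, form_smul_right, Units.val_mul, mul_assoc]

theorem conjS_scalar (u : Fˣ) : conjS (scalarS (m := m) u) = 1 := by
  apply MulEquiv.ext
  intro x
  induction x using QuotientGroup.induction_on with
  | H s =>
    rw [conjS_mk, MulAut.one_apply]
    refine congrArg _ (Subtype.ext (Matrix.ext_of_mulVec_single fun j => ?_))
    generalize (Pi.single j 1 : Vec m F) = v
    rw [spConj_coe, ← mulVec_mulVec, ← mulVec_mulVec]
    show (Matrix.GeneralLinearGroup.scalar (Fin m ⊕ Fin m) u : Mat m F) *ᵥ _ = _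
    have hinv : (scalarS (m := m) u).1⁻¹ = Matrix.GeneralLinearGroup.scalar (Fin m ⊕ Fin m) u⁻¹ :=
      (map_inv _ _).symm
    rw [hinv, scalar_mulVec', scalar_mulVec', mulVec_smul, smul_smul, Units.mul_inv, one_smul]

theorem eq_scalar_of_conjS_eq_one {g : ↥(GSp m F)} (h : conjS g = 1) :
    ∃ u : Fˣ, g.1 = Matrix.GeneralLinearGroup.scalar (Fin m ⊕ Fin m) u := by
  obtain ⟨c, hc⟩ := g.2
  have hline : ∀ v : Vec m F, v ≠ 0 → ∃ a : F, (g.1 : Mat m F) *ᵥ v = a • v := by
    intro v hv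
    have e := conjS_tel g hc v 1
    rw [h, MulAut.one_apply] at e
    have h0 : (g.1 : Mat m F) *ᵥ v ≠ 0 := fun e0 => hv (by
      have := congrArg (((g.1⁻¹ : GL (Fin m ⊕ Fin m) F) : Mat m F) *ᵥ ·) e0
      simpa [inv_mulVec_mulVec] using this)
    exact exists_smul_of_tel_eq h0 (mul_ne_zero one_ne_zero (Units.ne_zero _)) e.symm
  obtain ⟨a, ha⟩ := (Matrix.toLin' (g.1 : Mat m F)).exists_eq_smul_id_of_forall_notLinearIndependent
    (fun v => by
      by_cases hv : v = 0
      · simp [hv, linearIndependent_fin2]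
      obtain ⟨a, ha⟩ := hline v hv
      intro hind
      rw [LinearIndependent.pair_iff] at hind
      have := hind a (-1) (by rw [Matrix.toLin'_apply, ha, neg_smul, one_smul, add_neg_cancel])
      exact one_ne_zero (neg_eq_zero.mp this.2))
  by_cases hm : m = 0
  · subst hm; exact ⟨1, Units.ext (Subsingleton.elim _ _)⟩
  have ha0 : a ≠ 0 := by
    rintro rfl
    have h1 := LinearMap.congr_fun ha (ee (⟨0, Nat.pos_of_ne_zero hm⟩ : Fin m))
    simp only [Matrix.toLin'_apply, zero_smul, LinearMap.zero_apply] at h1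
    have := congrArg (((g.1⁻¹ : GL (Fin m ⊕ Fin m) F) : Mat m F) *ᵥ ·) h1
    simp only [inv_mulVec_mulVec, mulVec_zero] at this
    exact ee_ne_zero _ this
  refine ⟨Units.mk0 a ha0, Units.ext (Matrix.ext_of_mulVec_single fun j => ?_)⟩
  rw [scalar_mulVec']
  simpa [Matrix.toLin'_apply] using LinearMap.congr_fun ha (Pi.single j 1)

theorem fieldS_injective (hm : 1 ≤ m) :
    Function.Injective (fieldS : (F ≃+* F) →* MulAut (PSpG m F)) :=
  (injective_iff_map_eq_one _).mpr fun σ h => RingEquiv.ext fun a => by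
    set z : Fin m := ⟨0, by omega⟩
    have e := fieldS_tel σ (ee z : Vec m F) a
    rw [h, MulAut.one_apply, show σ ∘ (ee z : Vec m F) = ee z by
      funext k; simp [Pi.single_apply, apply_ite σ]] at e
    exact (tel_injective (ee_ne_zero z) e).symm

theorem isInducedBySemilinear_iff {g : ↥(GSp m F)} {σ : F ≃+* F} {β : MulAut (PSpG m F)} :
    Cfsg.IsInducedBySemilinearPSp g.1 σ β ↔ β = conjS g * fieldS σ := by
  constructor
  · intro h
    apply MulEquiv.ext
    intro x
    induction x using QuotientGroup.induction_on with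
    | H s => exact h s (spConj g (spField σ s)) rfl
  · rintro rfl s s' hs
    exact congrArg (QuotientGroup.mk : SpG m F → PSpG m F) (Subtype.ext hs.symm)

theorem isStdField_iff {σ : F ≃+* F} {β : MulAut (PSpG m F)} :
    Cfsg.IsStdFieldAutPSp σ β ↔ β = fieldS σ := by
  constructor
  · intro h
    apply MulEquiv.ext
    intro x
    induction x using QuotientGroup.induction_on with
    | H s => exact h s (spField σ s) rfl
  · rintro rfl s s' hs
    exact congrArg (QuotientGroup.mk : SpG m F → PSpG m F) (Subtype.ext hs.symm)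

theorem isInnerDiagonal_iff {β : MulAut (PSpG m F)} :
    Cfsg.IsInnerDiagonalAutPSp β ↔ ∃ g : ↥(GSp m F), β = conjS g := by
  constructor
  · rintro ⟨g, hg, h⟩
    refine ⟨⟨g, hg⟩, ?_⟩
    have h' := (isInducedBySemilinear_iff (g := ⟨g, hg⟩) (σ := 1) (β := β)).mp h
    rw [h', map_one, mul_one]
  · rintro ⟨g, rfl⟩
    exact ⟨g.1, g.2, (isInducedBySemilinear_iff (g := g) (σ := 1)).mpr (by rw [map_one, mul_one])⟩

theorem inndiag_eq_range : Cfsg.inndiagPSp m F = (conjS : ↥(GSp m F) →* _).range := by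
  rw [Cfsg.inndiagPSp, Cfsg.autSubgroupOf]
  conv_rhs => rw [← Subgroup.closure_eq (conjS : ↥(GSp m F) →* MulAut (PSpG m F)).range]
  congr 1
  ext β
  rw [Set.mem_ofPred_eq, isInnerDiagonal_iff, SetLike.mem_coe, MonoidHom.mem_range]
  exact exists_congr fun g => eq_comm

theorem mem_inndiag_iff {β : MulAut (PSpG m F)} :
    β ∈ Cfsg.inndiagPSp m F ↔ ∃ g : ↥(GSp m F), conjS g = β := by
  rw [inndiag_eq_range]; exact MonoidHom.mem_range

/-- Inner automorphisms are the similitudes with square multiplier. -/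
theorem inner_eq_map (z : Fin m) : Cfsg.Inn (PSpG m F) =
    (((powMonoidHom 2 : Fˣ →* Fˣ).range).comap (multS (F := F) z)).map conjS := by
  ext β
  constructor
  · rintro ⟨x, rfl⟩
    obtain ⟨s, rfl⟩ := QuotientGroup.mk_surjective x
    refine ⟨spToGSp s, ⟨1, ?_⟩, conjS_sp s⟩
    rw [map_one]
    exact (multS_eq z _ fun u v => by
      rw [spToGSp_coe, spToGL_coe, sympForm_mulVec, Units.val_one, one_mul]).symm
  · rintro ⟨g, ⟨u, hu⟩, rfl⟩
    set k := scalarS (m := m) u⁻¹ * g with hk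
    have hk1 : multS z k = 1 := by
      rw [hk, map_mul, multS_scalar, ← hu]
      show u⁻¹ * u⁻¹ * u ^ 2 = 1
      group
    have hmem : (k.1 : Mat m F) ∈ Matrix.symplecticGroup (Fin m) F := by
      rw [mem_symplecticGroup_iff]
      intro a b
      rw [multS_spec z, hk1, Units.val_one, one_mul]
    refine ⟨QuotientGroup.mk (⟨_, hmem⟩ : SpG m F), ?_⟩
    refine (conjS_sp (⟨_, hmem⟩ : SpG m F)).symm.trans ?_
    rw [show spToGSp (⟨_, hmem⟩ : SpG m F) = k from Subtype.ext (Units.ext rfl), hk, map_mul,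
      conjS_scalar, one_mul]

theorem inndiag_eq_inn_of_char_two [Finite F] (hm : 1 ≤ m) (h2 : (2 : F) = 0) :
    Cfsg.inndiagPSp m F = Cfsg.Inn (PSpG m F) := by
  set z : Fin m := ⟨0, by omega⟩
  rw [inner_eq_map z, inndiag_eq_range, MonoidHom.range_eq_map]
  congr 1
  symm
  rw [eq_top_iff]
  intro g _
  have : CharP F 2 := CharTwo.of_one_ne_zero_of_two_eq_zero one_ne_zero h2
  have := Fintype.ofFinite F
  obtain ⟨c, hc⟩ := FiniteField.isSquare_of_char_two (ringChar.eq F 2) (multS z g : F)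
  have hc0 : c ≠ 0 := fun e => (multS z g).ne_zero (by rw [hc, e, mul_zero])
  exact ⟨Units.mk0 c hc0, Units.ext (by
    show (Units.mk0 c hc0 : F) ^ 2 = multS z g
    rw [hc, Units.val_mk0, pow_two])⟩

end CfsgLib.AutPSp
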