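import Cfsg.Agent.Lib.AutPSp.SpFour
import Cfsg.Agent.Lib.AutPSp.Kernel
import Cfsg.Agent.Lib.AutPSL.FieldGalois
import Cfsg.Agent.Lib.Sp.Card

/-!
The order of `Aut(PSp_{2m}(q))`.
-/

set_option autoImplicit false
set_option linter.unusedSectionVars false

namespace CfsgLib.AutPSp

open Matrix Cfsg CfsgLib.Sp

variable {m : ℕ} {F : Type*} [Field F]

/-- An inner-diagonal field automorphism is trivial. -/
theorem field_eq_one_of_conjS (hm : 1 ≤ m) {g : ↥(GSp m F)} {σ : F ≃+* F}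
    (h : conjS g = fieldS σ) : σ = 1 := by
  set z : Fin m := ⟨0, by omega⟩
  obtain ⟨c, hc⟩ := g.2
  have hsz : σ ∘ (ee z : Vec m F) = ee z := by
    funext k; simp [Pi.single_apply, apply_ite σ]
  have e : ∀ a : F, tel ((g.1 : Mat m F) *ᵥ ee z) (a * ((c⁻¹ : Fˣ) : F)) = tel (ee z : Vec m F) (σ a) := by
    intro a
    rw [← conjS_tel g hc, h, fieldS_tel, hsz]
  have hw : (g.1 : Mat m F) *ᵥ ee z ≠ 0 := fun e0 => ee_ne_zero (F := F) z (by
    have := congrArg (((g.1⁻¹ : GL (Fin m ⊕ Fin m) F) : Mat m F) *ᵥ ·) e0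
    simpa only [inv_mulVec_mulVec, mulVec_zero] using this)
  obtain ⟨k, hk⟩ := exists_smul_of_tel_eq hw (a := 1 * ((c⁻¹ : Fˣ) : F))
    (mul_ne_zero one_ne_zero (Units.ne_zero _)) (e 1)
  have e2 : ∀ a : F, a * ((c⁻¹ : Fˣ) : F) * k * k = σ a := fun a => tel_injective (ee_ne_zero z) (by
    rw [← e, hk, tel_smul])
  refine RingEquiv.ext fun a => ?_
  have h1 := e2 1
  rw [map_one, one_mul] at h1
  show σ a = a
  rw [← e2, mul_assoc, mul_assoc, ← mul_assoc ((c⁻¹ : Fˣ) : F), h1, mul_one]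

theorem card_range_conjS [Fintype F] (hm : 1 ≤ m) :
    Nat.card (conjS : ↥(GSp m F) →* MulAut (PSpG m F)).range = Nat.card (SpG m F) := by
  set z : Fin m := ⟨0, by omega⟩
  have hker : (conjS : ↥(GSp m F) →* MulAut (PSpG m F)).ker.index = Nat.card (SpG m F) := by
    have h1 : Nat.card (multS (F := F) z).ker = Nat.card (SpG m F) := by
      refine (Nat.card_congr (Equiv.ofBijective
        (fun A : SpG m F => (⟨spToGSp A, multS_eq z _ fun u v => by
          rw [spToGSp_coe, spToGL_coe, sympForm_mulVec, Units.val_one, one_mul]⟩ :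
            (multS (F := F) z).ker)) ⟨fun A B e => Subtype.ext ?_, fun g => ?_⟩)).symm
      · exact congrArg (fun g : (multS (F := F) z).ker => (g.1.1 : Mat m F)) e
      · have hmem : (g.1.1 : Mat m F) ∈ Matrix.symplecticGroup (Fin m) F :=
          mem_symplecticGroup_iff.mpr fun u v => by
            rw [multS_spec z g.1, show multS z g.1 = 1 from g.2, Units.val_one, one_mul]
        exact ⟨⟨_, hmem⟩, Subtype.ext (Subtype.ext (Units.ext rfl))⟩
    have hsurj : Function.Surjective (multS (F := F) z) := fun u => by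
      obtain ⟨d, -, hdf⟩ := exists_similitude
        (Sum.elim (fun i => (ee i : Vec m F)) (fun i => (u : F) • ff i)) u (by
          intro i j
          rcases i with i | i <;> rcases j with j | j <;>
            simp [form_smul_left, form_smul_right, form_ee_right, form_ff_right, Pi.single_apply])
      exact ⟨d, multS_eq z d hdf⟩
    have e1 := (multS (F := F) z).ker.card_mul_index
    rw [Subgroup.index_ker, h1, MonoidHom.range_eq_top.mpr hsurj, Subgroup.card_top] at e1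
    have hk : (conjS : ↥(GSp m F) →* MulAut (PSpG m F)).ker =
        (MonoidHom.mk' (scalarS (m := m) (F := F)) fun a b => Subtype.ext (by simp [scalarS])).range := by
      ext g
      rw [MonoidHom.mem_ker]
      exact ⟨fun h => let ⟨u, hu⟩ := eq_scalar_of_conjS_eq_one h; ⟨u, Subtype.ext hu.symm⟩,
        fun ⟨u, hu⟩ => hu ▸ conjS_scalar u⟩
    have hinj : Function.Injective (scalarS (m := m) (F := F)) := fun a b e => by
      have := congrArg (fun g : ↥(GSp m F) => (g.1 : Mat m F) (.inl z) (.inl z)) e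
      simp [scalarS, Matrix.scalar_apply] at this
      exact Units.ext this
    have e2 := (conjS : ↥(GSp m F) →* MulAut (PSpG m F)).ker.card_mul_index
    rw [hk, ← Nat.card_congr (MonoidHom.ofInjective (f := MonoidHom.mk' (scalarS (m := m) (F := F))
      fun a b => Subtype.ext (by simp [scalarS])) hinj).toEquiv, ← hk, ← e1, mul_comm _ (Nat.card Fˣ)] at e2
    exact Nat.eq_of_mul_eq_mul_left Nat.card_pos e2
  rw [← Subgroup.index_ker, hker]

/-- The order of the group generated by similitudes and field automorphisms. -/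
theorem card_gamma [Fintype F] (hm : 1 ≤ m) {s : Set (MulAut (PSpG m F))}
    (hs : ∀ β, β ∈ s ↔ ∃ (g : ↥(GSp m F)) (σ : F ≃+* F), β = conjS g * fieldS σ) :
    Nat.card s = Nat.card (SpG m F) * Nat.card (F ≃+* F) := by
  let Ψ : (conjS : ↥(GSp m F) →* MulAut (PSpG m F)).range × (F ≃+* F) → s :=
    fun x => ⟨x.1.1 * fieldS x.2, (hs _).mpr
      (let ⟨g, hg⟩ := x.1.2; ⟨g, x.2, by rw [hg]⟩)⟩
  have hbij : Function.Bijective Ψ := by
    refine ⟨?_, fun β => ?_⟩
    · rintro ⟨⟨a, g, rfl⟩, σ⟩ ⟨⟨a', g', rfl⟩, σ'⟩ h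
      replace h : conjS g * fieldS σ = conjS g' * fieldS σ' := congrArg Subtype.val h
      have e : conjS (g'⁻¹ * g) = fieldS (σ' * σ⁻¹) := by
        rw [map_mul, map_inv, map_mul, map_inv, inv_mul_eq_iff_eq_mul, ← mul_assoc, ← h]
        group
      have hσ : σ' = σ := mul_inv_eq_one.mp (field_eq_one_of_conjS hm e)
      subst hσ
      exact Prod.ext (Subtype.ext (mul_right_cancel h)) rfl
    · obtain ⟨g, σ, hg⟩ := (hs _).mp β.2
      exact ⟨(⟨_, g, rfl⟩, σ), Subtype.ext hg.symm⟩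
  rw [← Nat.card_eq_of_bijective Ψ hbij, Nat.card_prod, card_range_conjS hm]

theorem card_mulAut_generic [Fintype F] (hm : 1 ≤ m) (hcase : (2 : F) ≠ 0 ∨ 3 ≤ m) :
    Nat.card (MulAut (PSpG m F)) = Nat.card (SpG m F) * Nat.card (F ≃+* F) := by
  rw [← card_gamma hm (s := Set.univ) fun β => iff_of_true trivial (aut_psp_structure hm hcase β),
    Nat.card_congr (Equiv.Set.univ _)]

theorem card_mulAut_four [Fintype F] [CharP F 2] (hq : 4 ≤ Fintype.card F) :
    Nat.card (MulAut (PSpG 2 F)) = 2 * (Nat.card (SpG 2 F) * Nat.card (F ≃+* F)) := by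
  classical
  obtain ⟨γ, hγ⟩ := exists_graphAut (F := F) hq
  set s : Set (MulAut (PSpG 2 F)) := {β | PresTel β}
  have hs : ∀ β, β ∈ s ↔ ∃ (g : ↥(GSp 2 F)) (σ : F ≃+* F), β = conjS g * fieldS σ := by
    intro β
    refine ⟨fun h => aut_psp_structure_of_pres (by omega) β (Or.inr h), ?_⟩
    rintro ⟨g, σ, rfl⟩ v a
    obtain ⟨c, hc⟩ := g.2
    exact ⟨_, _, by rw [MulAut.mul_apply, fieldS_tel, conjS_tel g hc]⟩
  have hsc : ∀ β, β ∈ sᶜ ↔ γ⁻¹ * β ∈ s := by
    intro β
    refine ⟨fun h => (presTel_or γ hγ β).resolve_left h, fun h h1 => ?_⟩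
    obtain ⟨w, b, hwb⟩ := h (ee 0) 1
    obtain ⟨c, hc⟩ := QuotientGroup.mk_surjective (β⁻¹ (tel (ee 0 : Vec 2 F) 1))
    obtain ⟨g, σ, hg⟩ := (hs _).mp h
    have h2 : PresTel γ := by
      obtain ⟨g', σ', hg'⟩ := (hs _).mp h1
      refine (hs γ).mpr ⟨g' * gspField σ' (gspField σ⁻¹ g⁻¹), σ' * σ⁻¹, ?_⟩
      rw [eq_comm, map_mul, map_mul fieldS, mul_assoc, ← mul_assoc (conjS (gspField σ' _)),
        ← fieldS_mul_conjS, mul_assoc (fieldS σ'), ← fieldS_mul_conjS, map_inv, map_inv,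
        ← mul_assoc, ← _root_.mul_inv_rev, ← hg, ← hg']
      group
    obtain ⟨w', b', hw'⟩ := h2 (ee 0) 1
    rw [tel, tel, hγ] at hw'
    exact graphHom_tmat_ne one_ne_zero w' b' (inv_mul_eq_one.mp (mk_eq_one_char_two CharTwo.two_eq_zero (by
      rw [QuotientGroup.mk_mul, QuotientGroup.mk_inv, hw', inv_mul_cancel])))
  have e : Nat.card ↥(sᶜ) = Nat.card s := Nat.card_congr
    ((Equiv.mulLeft γ⁻¹).subtypeEquiv fun β => hsc β)
  rw [← card_gamma (s := s) (by omega) hs, two_mul, ← Nat.card_congr (Equiv.Set.sumCompl s),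
    Nat.card_sum, e]

end CfsgLib.AutPSp
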