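import Cfsg.Agent.Lib.AutPSp.Main
import Cfsg.Agent.Lib.Sp.Simple

/-!
The exceptional endomorphism of `Sp₄` in characteristic two, given by the `2 × 2` minors.
-/

set_option autoImplicit false
set_option linter.unusedSectionVars false

namespace CfsgLib.AutPSp

open Matrix Cfsg CfsgLib.Sp

variable {F : Type*} [Field F]

abbrev Ix4 := Fin 2 ⊕ Fin 2

/-- The pairs of indices labelling the basis of the four-dimensional representation. -/
def pairFst : Ix4 → Ix4
  | .inl _ => .inl 0
  | .inr i => if i = 0 then .inr 0 else .inl 1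

/-- The pairs of indices labelling the basis of the four-dimensional representation. -/
def pairSnd : Ix4 → Ix4
  | .inl i => if i = 0 then .inl 1 else .inr 1
  | .inr i => if i = 0 then .inr 1 else .inr 0

/-- The minor of rows `a, b` and columns `c, d`, up to sign. -/
def minor2 (g : Mat 2 F) (a b c d : Ix4) : F := g a c * g b d + g a d * g b c

/-- The matrix of minors. -/
def graphMat (g : Mat 2 F) : Mat 2 F :=
  Matrix.of fun P Q => minor2 g (pairFst P) (pairSnd P) (pairFst Q) (pairSnd Q)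

theorem two_eq_zero' [CharP F 2] : (2 : F) = 0 := CharTwo.two_eq_zero

/-- Sum of the two minors on the pairs `(eᵢ, fᵢ)`, columns. -/
theorem minor_cols [CharP F 2] (g : SpG 2 F) (Q : Ix4) :
    minor2 g.1 (.inl 0) (.inr 0) (pairFst Q) (pairSnd Q) +
      minor2 g.1 (.inl 1) (.inr 1) (pairFst Q) (pairSnd Q) = 0 := by
  have h := sympForm_mulVec g (Pi.single (pairFst Q) 1) (Pi.single (pairSnd Q) 1)
  rw [sympForm_eq_sum, sympForm_eq_sum, Matrix.mulVec_single_one, Matrix.mulVec_single_one] at h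
  simp only [Fin.sum_univ_two, CharTwo.sub_eq_add, Matrix.col_apply] at h
  have h0 : ∀ Q : Ix4, ∀ i : Fin 2, ¬(pairFst Q = .inl i ∧ pairSnd Q = .inr i) ∧
      ¬(pairFst Q = .inr i ∧ pairSnd Q = .inl i) := by decide
  rcases Q with i | i <;> fin_cases i <;>
    simp [minor2, pairFst, pairSnd, Pi.single_apply] at h ⊢ <;> linear_combination h

/-- Sum of the two minors on the pairs `(eᵢ, fᵢ)`, rows. -/
theorem minor_rows [CharP F 2] (g : SpG 2 F) (P : Ix4) :
    minor2 g.1 (pairFst P) (pairSnd P) (.inl 0) (.inr 0) +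
      minor2 g.1 (pairFst P) (pairSnd P) (.inl 1) (.inr 1) = 0 := by
  have h := minor_cols ⟨g.1ᵀ, SymplecticGroup.transpose_mem g.2⟩ P
  simp only [minor2, Matrix.transpose_apply] at h ⊢
  linear_combination h

theorem minor2_mul [CharP F 2] (g h : Mat 2 F) (a b c d : Ix4) :
    minor2 (g * h) a b c d =
      (∑ R : Ix4, minor2 g a b (pairFst R) (pairSnd R) * minor2 h (pairFst R) (pairSnd R) c d) +
      (minor2 g a b (.inl 0) (.inr 0) * minor2 h (.inl 0) (.inr 0) c d +
        minor2 g a b (.inl 1) (.inr 1) * minor2 h (.inl 1) (.inr 1) c d) := by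
  have h2 : (2 : F) = 0 := two_eq_zero'
  simp [minor2, Matrix.mul_apply, Fintype.sum_sum_type, Fin.sum_univ_two, pairFst, pairSnd]
  linear_combination (g a (.inl 0) * g b (.inl 0) * h (.inl 0) c * h (.inl 0) d +
    g a (.inl 1) * g b (.inl 1) * h (.inl 1) c * h (.inl 1) d +
    g a (.inr 0) * g b (.inr 0) * h (.inr 0) c * h (.inr 0) d +
    g a (.inr 1) * g b (.inr 1) * h (.inr 1) c * h (.inr 1) d) * h2

theorem graphMat_mul [CharP F 2] (g h : SpG 2 F) :
    graphMat (g.1 * h.1) = graphMat g.1 * graphMat h.1 := by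
  ext P Q
  have h2 : (2 : F) = 0 := two_eq_zero'
  simp only [Matrix.mul_apply, graphMat, Matrix.of_apply, minor2_mul]
  linear_combination (minor2 g.1 (pairFst P) (pairSnd P) (.inl 0) (.inr 0)) * minor_cols h Q +
    (minor2 h.1 (.inl 1) (.inr 1) (pairFst Q) (pairSnd Q)) * minor_rows g P -
    (minor2 g.1 (pairFst P) (pairSnd P) (.inl 0) (.inr 0) *
      minor2 h.1 (.inl 1) (.inr 1) (pairFst Q) (pairSnd Q)) * h2

/-- Expansion of a `4 × 4` determinant by complementary minors in characteristic two. -/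
theorem det_four_char_two [CharP F 2] (x y z w : Fin 4 → F) :
    (Matrix.of ![x, y, z, w]).det =
      (x 0 * y 1 + x 1 * y 0) * (z 2 * w 3 + z 3 * w 2) +
      (x 0 * y 2 + x 2 * y 0) * (z 1 * w 3 + z 3 * w 1) +
      (x 0 * y 3 + x 3 * y 0) * (z 1 * w 2 + z 2 * w 1) +
      (x 1 * y 2 + x 2 * y 1) * (z 0 * w 3 + z 3 * w 0) +
      (x 1 * y 3 + x 3 * y 1) * (z 0 * w 2 + z 2 * w 0) +
      (x 2 * y 3 + x 3 * y 2) * (z 0 * w 1 + z 1 * w 0) := by
  simp [Matrix.det_succ_row_zero, Fin.sum_univ_succ, Fin.succAbove, CharTwo.neg_eq]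
  ring_nf

/-- The four indices in the order `e₀, f₀, e₁, f₁`. -/
def fourIx : Fin 4 → Ix4 := ![.inl 0, .inr 0, .inl 1, .inr 1]

/-- The partner of an index. -/
def swapIx : Ix4 → Ix4 := Sum.elim Sum.inr Sum.inl

theorem sympForm_char_two [CharP F 2] (u v : Vec 2 F) :
    sympForm 2 F u v = u (.inl 0) * v (.inr 0) + u (.inr 0) * v (.inl 0) +
      (u (.inl 1) * v (.inr 1) + u (.inr 1) * v (.inl 1)) := by
  rw [sympForm_eq_sum, Fin.sum_univ_two]
  simp only [CharTwo.sub_eq_add]
  ring

theorem cols_inj_iff : ∀ Q R : Ix4,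
    R = swapIx Q ↔ Function.Injective ![pairFst Q, pairSnd Q, pairFst R, pairSnd R] := by decide

theorem single_form [CharP F 2] (Q R : Ix4) :
    sympForm 2 F (Pi.single Q 1) (Pi.single R 1) = if R = swapIx Q then 1 else 0 := by
  rw [sympForm_char_two]
  rcases Q with i | i <;> rcases R with j | j <;> fin_cases i <;> fin_cases j <;>
    simp [swapIx, Pi.single_apply]

theorem graphMat_form [CharP F 2] (g : SpG 2 F) (Q R : Ix4) :
    sympForm 2 F (fun P => graphMat g.1 P Q) (fun P => graphMat g.1 P R) =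
      if R = swapIx Q then 1 else 0 := by
  classical
  have h2 : (2 : F) = 0 := two_eq_zero'
  set cols : Fin 4 → Ix4 := ![pairFst Q, pairSnd Q, pairFst R, pairSnd R] with hcols
  have hS : sympForm 2 F (fun P => graphMat g.1 P Q) (fun P => graphMat g.1 P R) =
      (Matrix.of fun i j => g.1 (fourIx j) (cols i)).det := by
    rw [sympForm_char_two]
    have e : (Matrix.of fun i j => g.1 (fourIx j) (cols i)) =
        Matrix.of ![fun j => g.1 (fourIx j) (pairFst Q), fun j => g.1 (fourIx j) (pairSnd Q),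
          fun j => g.1 (fourIx j) (pairFst R), fun j => g.1 (fourIx j) (pairSnd R)] := by
      ext i j; fin_cases i <;> rfl
    rw [e, det_four_char_two]
    have hq := minor_cols g Q
    have hr := minor_cols g R
    simp only [graphMat, minor2, Matrix.of_apply] at hq hr ⊢
    generalize pairFst Q = a, pairSnd Q = b, pairFst R = c, pairSnd R = d at hq hr ⊢
    simp [pairFst, pairSnd, fourIx] at hq hr ⊢
    linear_combination (-(g.1 (.inl 1) c * g.1 (.inr 1) d + g.1 (.inl 1) d * g.1 (.inr 1) c)) * hq -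
      (g.1 (.inl 1) a * g.1 (.inr 1) b + g.1 (.inl 1) b * g.1 (.inr 1) a) * hr +
      ((g.1 (.inl 1) a * g.1 (.inr 1) b + g.1 (.inl 1) b * g.1 (.inr 1) a) *
        (g.1 (.inl 1) c * g.1 (.inr 1) d + g.1 (.inl 1) d * g.1 (.inr 1) c)) * h2
  rw [hS]
  have hfour : Function.Bijective fourIx := by unfold fourIx; decide
  let e4 : Fin 4 ≃ Ix4 := Equiv.ofBijective fourIx hfour
  have key : R = swapIx Q ↔ Function.Injective cols := cols_inj_iff Q R
  by_cases hR : R = swapIx Q
  · rw [if_pos hR]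
    have hinj := key.mp hR
    let ec : Fin 4 ≃ Ix4 := Equiv.ofBijective cols
      ((Fintype.bijective_iff_injective_and_card cols).mpr ⟨hinj, by simp⟩)
    have e : (Matrix.of fun i j => g.1 (fourIx j) (cols i)) =
        ((Matrix.reindex e4.symm e4.symm g.1)ᵀ.submatrix (ec.trans e4.symm) id) := by
      ext i j
      simp [Matrix.reindex_apply, e4, ec, Equiv.ofBijective_apply_symm_apply]
    rw [e, Matrix.det_permute, Matrix.det_transpose, Matrix.det_reindex_self,
      SymplecticGroup.det_eq_one g.2, mul_one]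
    rcases Int.units_eq_one_or (Equiv.Perm.sign (ec.trans e4.symm)) with h | h <;> rw [h]
    · simp
    · simp [CharTwo.neg_eq]
  · rw [if_neg hR]
    obtain ⟨i, j, hij, hne⟩ : ∃ i j, cols i = cols j ∧ i ≠ j := by
      by_contra hall
      push Not at hall
      exact hR (key.mpr fun i j h => hall i j h)
    exact Matrix.det_zero_of_row_eq hne (funext fun k => by simp [hij])

theorem graphMat_mem [CharP F 2] (g : SpG 2 F) : graphMat g.1 ∈ Matrix.symplecticGroup (Fin 2) F := by
  rw [mem_symplecticGroup_iff]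
  intro u v
  have e : (sympBilin 2 F).compl₁₂ (Matrix.toLin' (graphMat g.1)) (Matrix.toLin' (graphMat g.1)) =
      sympBilin 2 F :=
    LinearMap.ext_basis (Pi.basisFun F Ix4) (Pi.basisFun F Ix4) fun Q R => by
      simp only [Pi.basisFun_apply, LinearMap.compl₁₂_apply, Matrix.toLin'_apply, sympBilin_apply,
        Matrix.mulVec_single_one]
      rw [single_form, ← graphMat_form g Q R]
      rfl
  have := LinearMap.congr_fun₂ e u v
  simpa [sympBilin_apply] using this

section CharTwoSection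

variable [CharP F 2]

/-- The exceptional endomorphism of `Sp₄`. -/
def graphHom : SpG 2 F →* SpG 2 F :=
  MonoidHom.mk' (fun g => ⟨graphMat g.1, graphMat_mem g⟩) fun g h => Subtype.ext (graphMat_mul g h)

theorem graphHom_coe (g : SpG 2 F) : (graphHom g).1 = graphMat g.1 := rfl

/-- The short root matrix. -/
def shortMat (c : F) : Mat 2 F :=
  Matrix.fromBlocks 1 (Matrix.of ![![0, c], ![c, 0]]) 0 1

theorem graphHom_tmat (a : F) :
    (graphHom (tmat (ee 0 : Vec 2 F) a)).1 = shortMat a := by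
  rw [graphHom_coe, tmat_ee_blocks]
  ext P Q
  rcases P with i | i <;> rcases Q with j | j <;> fin_cases i <;> fin_cases j <;>
    simp [graphMat, minor2, pairFst, pairSnd, shortMat, Matrix.single_apply, Matrix.one_apply]

/-- The image of a transvection is not a transvection. -/
theorem graphHom_tmat_ne {a : F} (ha : a ≠ 0) (w : Vec 2 F) (b : F) :
    graphHom (tmat (ee 0 : Vec 2 F) a) ≠ tmat w b := by
  intro h
  have hk : ∀ k l : Ix4, shortMat a k l =
      (Pi.single l 1 : Vec 2 F) k + b * sympForm 2 F (Pi.single l 1) w * w k := by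
    intro k l
    have h' : (graphHom (tmat (ee 0 : Vec 2 F) a)).1 *ᵥ (Pi.single l 1 : Vec 2 F) =
        (tmat w b).1 *ᵥ (Pi.single l 1 : Vec 2 F) := by rw [h]
    rw [graphHom_tmat, show (tmat w b).1 = sympTransvection 2 w b from rfl, sympTransvection_mulVec,
      Matrix.mulVec_single_one] at h'
    simpa using congrFun h' k
  have e1 := hk (.inl 0) (.inr 1)
  have e2 := hk (.inl 1) (.inr 0)
  have e3 := hk (.inl 1) (.inr 1)
  simp [shortMat, Pi.single_apply] at e1 e2 e3
  rcases e3 with e | e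
  · apply ha
    rcases e with e | e <;> simp [e1, e]
  · exact ha (by simp [e2, e])

variable [Fintype F]

theorem graphHom_injective (hq : 4 ≤ Fintype.card F) :
    Function.Injective (graphHom : SpG 2 F →* SpG 2 F) := by
  have h2 : (2 : F) = 0 := two_eq_zero'
  have hS := psp_isSimpleGroup (m := 2) (by omega)
    (commutator_eq_top_of_card (m := 2) (F := F) rfl (Or.inl hq))
  have hmk : Function.Injective (QuotientGroup.mk' (Subgroup.center (SpG 2 F))) :=
    (injective_iff_map_eq_one _).mpr fun A hA => mk_eq_one_char_two h2 hA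
  rw [← MonoidHom.ker_eq_bot_iff]
  rcases (Subgroup.Normal.map (inferInstance : (graphHom (F := F)).ker.Normal)
    (QuotientGroup.mk' (Subgroup.center (SpG 2 F)))
    (QuotientGroup.mk'_surjective _)).eq_bot_or_eq_top with h | h
  · rw [eq_bot_iff]
    intro g hg
    have : QuotientGroup.mk' (Subgroup.center (SpG 2 F)) g = 1 := by
      rw [← Subgroup.mem_bot, ← h]; exact Subgroup.mem_map_of_mem _ hg
    exact hmk (this.trans (map_one _).symm)
  · exfalso
    have hmem : tel (ee 0 : Vec 2 F) 1 ∈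
        (graphHom (F := F)).ker.map (QuotientGroup.mk' (Subgroup.center (SpG 2 F))) := by
      rw [h]; trivial
    obtain ⟨k, hk, he⟩ := hmem
    have : k = tmat (ee 0 : Vec 2 F) 1 := hmk he
    subst this
    apply graphHom_tmat_ne (F := F) one_ne_zero (ee 0) 0
    rw [MonoidHom.mem_ker.mp hk, tmat_zero]

theorem exists_graphAut (hq : 4 ≤ Fintype.card F) :
    ∃ γ : MulAut (PSpG 2 F), ∀ g : SpG 2 F,
      γ (QuotientGroup.mk g) = (QuotientGroup.mk (graphHom g) : PSpG 2 F) := by
  let e : MulAut (SpG 2 F) :=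
    MulEquiv.ofBijective graphHom (Finite.injective_iff_bijective.mp (graphHom_injective hq))
  exact ⟨CfsgLib.AutPSL.descendAut _ e, fun g => rfl⟩

/-- The mixed element `x_long(1) x_short(1)` is not `NoFour`. -/
theorem not_noFour_mixed {X : SpG 2 F}
    (hX : X.1 = Matrix.fromBlocks 1 (Matrix.of ![![1, 1], ![1, 0]]) 0 1) :
    ¬ NoFour (QuotientGroup.mk X : PSpG 2 F) := by
  have h2 : (2 : F) = 0 := two_eq_zero'
  let φ : ZMod 2 →+* F := ZMod.castHom (dvd_refl 2) F
  let X2 : Matrix Ix4 Ix4 (ZMod 2) := Matrix.fromBlocks 1 (Matrix.of ![![1, 1], ![1, 0]]) 0 1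
  let G2 : Matrix Ix4 Ix4 (ZMod 2) :=
    Matrix.fromBlocks !![0, 0; 1, 0] !![0, 1; 0, 0] !![0, 1; 0, 0] !![0, 0; 1, 0]
  let H2 : Matrix Ix4 Ix4 (ZMod 2) :=
    Matrix.fromBlocks !![0, 1; 0, 0] !![0, 0; 1, 0] !![0, 0; 1, 0] !![0, 1; 0, 0]
  have hGH : G2 * H2 = 1 := by decide
  have hG : G2 * Matrix.J (Fin 2) (ZMod 2) * G2ᵀ = Matrix.J (Fin 2) (ZMod 2) := by decide
  have h4 : (X2 * (G2 * X2 * H2)) * (X2 * (G2 * X2 * H2)) *
      ((X2 * (G2 * X2 * H2)) * (X2 * (G2 * X2 * H2))) = 1 := by decide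
  have hsq : (X2 * (G2 * X2 * H2)) * (X2 * (G2 * X2 * H2)) ≠ 1 := by decide
  have hJ : (Matrix.J (Fin 2) (ZMod 2)).map φ = Matrix.J (Fin 2) F := by
    ext i j
    rcases i with i | i <;> rcases j with j | j <;>
      simp [Matrix.J, Matrix.one_apply, apply_ite φ, CharTwo.neg_eq]
  have hGmem : G2.map φ ∈ Matrix.symplecticGroup (Fin 2) F := by
    rw [SymplecticGroup.mem_iff, ← hJ, ← Matrix.transpose_map, ← Matrix.map_mul, ← Matrix.map_mul, hG]
  set g : SpG 2 F := ⟨_, hGmem⟩
  have hinv : (g⁻¹ : SpG 2 F).1 = H2.map φ := by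
    have e : g.1 * H2.map φ = 1 := by
      show G2.map φ * _ = 1
      rw [← Matrix.map_mul, hGH, Matrix.map_one φ (map_zero φ) (map_one φ)]
    have e2 : (g⁻¹ : SpG 2 F).1 * g.1 = 1 := by
      rw [← Submonoid.coe_mul, inv_mul_cancel, Submonoid.coe_one]
    exact left_inv_eq_right_inv e2 e
  have hX2 : X.1 = X2.map φ := by
    rw [hX]
    ext i j
    rcases i with i | i <;> rcases j with j | j <;> fin_cases i <;> fin_cases j <;> simp [X2]
  set M : SpG 2 F := X * (g * X * g⁻¹)
  have hM : M.1 = (X2 * (G2 * X2 * H2)).map φ := by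
    rw [Matrix.map_mul, Matrix.map_mul, Matrix.map_mul, ← hX2, ← hinv]
    rfl
  intro hN
  have hconj : (QuotientGroup.mk X : PSpG 2 F) *
      MulAut.conj (QuotientGroup.mk g : PSpG 2 F) (QuotientGroup.mk X) = QuotientGroup.mk M := by
    rw [MulAut.conj_apply, ← QuotientGroup.mk_inv, ← QuotientGroup.mk_mul, ← QuotientGroup.mk_mul,
      ← QuotientGroup.mk_mul]
  have hM4 : M ^ 4 = 1 := by
    apply Subtype.ext
    rw [show M ^ 4 = M * M * (M * M) from by simp [pow_succ, mul_assoc], Submonoid.coe_mul, Submonoid.coe_mul,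
      hM, ← Matrix.map_mul, ← Matrix.map_mul, h4, Matrix.map_one φ (map_zero φ) (map_one φ)]
    rfl
  have h := hN (QuotientGroup.mk g)
  rw [hconj, ← QuotientGroup.mk_pow, ← QuotientGroup.mk_pow, hM4] at h
  have h22 := mk_eq_one_char_two h2 (h rfl)
  apply hsq
  apply Matrix.map_injective φ.injective
  show ((X2 * (G2 * X2 * H2)) * (X2 * (G2 * X2 * H2))).map φ = (1 : Matrix Ix4 Ix4 (ZMod 2)).map φ
  rw [Matrix.map_mul, ← hM, Matrix.map_one φ (map_zero φ) (map_one φ), ← Submonoid.coe_mul, ← pow_two,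
    h22]
  rfl

/-- Image of a transvection: conjugate into the centre of the Sylow subgroup. -/
theorem exists_conj_central (β : MulAut (PSpG 2 F)) (a : F) :
    ∃ (s x : SpG 2 F) (A C : F), β (tel (ee 0 : Vec 2 F) a) =
        MulAut.conj (QuotientGroup.mk s : PSpG 2 F) (QuotientGroup.mk x) ∧
      x.1 = Matrix.fromBlocks 1 (Matrix.of ![![A, C], ![C, 0]]) 0 1 := by
  have h2 : (2 : F) = 0 := two_eq_zero'
  have h0 : ∀ i : Fin 2, (0 : Fin 2) ≤ i := fun i => Fin.zero_le i
  set P := sylowS (F := F) (m := 2) 2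
  obtain ⟨g, hg⟩ := MulAction.exists_smul_eq (PSpG 2 F) P (β • P)
  have hmem : ∀ y, y ∈ P ↔ (MulAut.conj g)⁻¹ (β y) ∈ P := by
    intro y
    have h1 : β y ∈ (β • P : Sylow 2 (PSpG 2 F)) ↔ y ∈ P :=
      Subgroup.smul_mem_pointwise_smul_iff (a := β) (S := (P : Subgroup (PSpG 2 F)))
    rw [← h1, ← hg]
    exact Subgroup.mem_pointwise_smul_iff_inv_smul_mem
  obtain ⟨s, rfl⟩ := QuotientGroup.mk_surjective g
  set y := (MulAut.conj (QuotientGroup.mk s : PSpG 2 F))⁻¹ (β (tel (ee 0) a)) with hy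
  have hyP : y ∈ P := (hmem _).mp ⟨_, tmat_ee_mem 0 a, rfl⟩
  obtain ⟨x, hx, hxy⟩ := hyP
  have hxy' : (QuotientGroup.mk x : PSpG 2 F) = y := hxy
  have hcomm : ∀ u ∈ uniS 2 F, Commute x u := by
    intro u hu
    have h1 : Commute y (QuotientGroup.mk u : PSpG 2 F) := by
      obtain ⟨y', hy'⟩ := ((β.trans (MulAut.conj (QuotientGroup.mk s : PSpG 2 F))⁻¹)).surjective
        (QuotientGroup.mk u)
      have hy'P : y' ∈ P := (hmem y').mpr (by
        rw [show (MulAut.conj (QuotientGroup.mk s : PSpG 2 F))⁻¹ (β y') =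
          (QuotientGroup.mk u : PSpG 2 F) from hy']
        exact ⟨u, hu, rfl⟩)
      obtain ⟨u', hu', rfl⟩ := hy'P
      rw [← hy']
      exact (((tmat_ee_central h0 a hu').map (QuotientGroup.mk' _)).map β.toMonoidHom).map
        (MulAut.conj (QuotientGroup.mk s : PSpG 2 F))⁻¹.toMonoidHom
    have h3 : (QuotientGroup.mk ((u * x)⁻¹ * (x * u)) : PSpG 2 F) = 1 := by
      rw [QuotientGroup.mk_mul, QuotientGroup.mk_inv, QuotientGroup.mk_mul, QuotientGroup.mk_mul,
        hxy', h1.eq, inv_mul_cancel]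
    exact (inv_mul_eq_one.mp (mk_eq_one_char_two h2 h3)).symm
  obtain ⟨S, hxe, hSsymm, hS⟩ := central_blocks hx hcomm h0
  refine ⟨s, x, S 0 0, S 0 1, ?_, ?_⟩
  · rw [hxy', hy, MulAut.apply_inv_self]
  · rw [hxe]
    congr 1
    have h10 : S 1 0 = S 0 1 := congrFun (congrFun hSsymm 0) 1
    have h11 : S 1 1 = 0 := (hS 0 1 (by decide)).1 1 (by decide)
    ext i j
    fin_cases i <;> fin_cases j <;> simp [h10, h11]

/-- An automorphism mapping one transvection to a transvection preserves transvections. -/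
theorem presTel_of_one (δ : MulAut (PSpG 2 F))
    (h : ∃ w b, δ (tel (ee 0 : Vec 2 F) 1) = tel w b) : PresTel δ := by
  obtain ⟨w, b, hwb⟩ := h
  intro v a
  rcases eq_or_ne v 0 with rfl | hv
  · refine ⟨0, 0, ?_⟩
    have : tel (0 : Vec 2 F) a = 1 := by
      rw [← zero_smul F (ee 0 : Vec 2 F), tel_smul, mul_zero, tel_zero]
    rw [this, map_one, tel_zero]
  rcases eq_or_ne a 0 with rfl | ha
  · exact ⟨0, 0, by rw [tel_zero, map_one, tel_zero]⟩
  obtain ⟨c, hc⟩ := FiniteField.isSquare_of_char_two (ringChar.eq F 2) a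
  have hc0 : c ≠ 0 := fun e => ha (by rw [hc, e, mul_zero])
  obtain ⟨k, hk⟩ := transitive_ne_zero_matrix (ee 0 : Vec 2 F) (c • v) (ee_ne_zero 0)
    (smul_ne_zero hc0 hv)
  obtain ⟨k', hk'⟩ := QuotientGroup.mk_surjective (δ (QuotientGroup.mk k))
  refine ⟨k'.1 *ᵥ w, b, ?_⟩
  have e : tel v a = MulAut.conj (QuotientGroup.mk k : PSpG 2 F) (tel (ee 0 : Vec 2 F) 1) := by
    rw [tel_conj_sp, hk, tel_smul, one_mul, hc]
  rw [e, MulAut.conj_apply, map_mul, map_mul, map_inv, hwb, ← hk', ← MulAut.conj_apply, tel_conj_sp]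

/-- Modulo the exceptional automorphism, automorphisms preserve the transvections. -/
theorem presTel_or (γ : MulAut (PSpG 2 F))
    (hγ : ∀ g : SpG 2 F, γ (QuotientGroup.mk g) = (QuotientGroup.mk (graphHom g) : PSpG 2 F))
    (β : MulAut (PSpG 2 F)) : PresTel β ∨ PresTel (γ⁻¹ * β) := by
  have h2 : (2 : F) = 0 := two_eq_zero'
  suffices key : ∀ δ : MulAut (PSpG 2 F),
      (∃ w b, δ (tel (ee 0 : Vec 2 F) 1) = tel w b) → PresTel δ by
    obtain ⟨s, x, A, C, hβ, hx⟩ := exists_conj_central β 1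
    have hne : β (tel (ee 0 : Vec 2 F) 1) ≠ 1 :=
      fun e => tel_ne_one (ee_ne_zero 0) one_ne_zero (β.injective (e.trans (map_one β).symm))
    rcases eq_or_ne C 0 with rfl | hC
    · left
      refine key β ⟨s.1 *ᵥ ee 0, A, ?_⟩
      rw [hβ, ← tel_conj_sp]
      refine congrArg _ (congrArg _ (Subtype.ext ?_))
      rw [tmat_ee_blocks, hx]
      congr 1
      ext i j
      fin_cases i <;> fin_cases j <;> simp [Matrix.single_apply]
    rcases eq_or_ne A 0 with rfl | hA
    · right
      obtain ⟨k, hk⟩ := γ.surjective (QuotientGroup.mk s)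
      obtain ⟨k, rfl⟩ := QuotientGroup.mk_surjective k
      refine key _ ⟨k.1 *ᵥ ee 0, C, ?_⟩
      rw [MulAut.mul_apply, ← tel_conj_sp]
      apply γ.injective
      rw [MulAut.apply_inv_self, hβ, MulAut.conj_apply, MulAut.conj_apply, map_mul, map_mul, map_inv,
        hk, tel, hγ]
      congr 2
      refine congrArg _ (Subtype.ext ?_)
      rw [hx, graphHom_tmat, shortMat]
    · exfalso
      obtain ⟨d0, hd0⟩ := FiniteField.isSquare_of_char_two (ringChar.eq F 2) A⁻¹
      have hd00 : d0 ≠ 0 := fun e => inv_ne_zero hA (by rw [hd0, e, mul_zero])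
      set d1 : F := (C * d0)⁻¹ with hd1
      have hd10 : d1 ≠ 0 := inv_ne_zero (mul_ne_zero hC hd00)
      have hdmem : Matrix.fromBlocks !![d0, 0; 0, d1] 0 0 !![d0⁻¹, 0; 0, d1⁻¹] ∈
          Matrix.symplecticGroup (Fin 2) F :=
        fromBlocks_mem (by
          ext i j
          fin_cases i <;> fin_cases j <;> simp [Matrix.mul_apply, hd00, hd10]) (by simp [Matrix.IsSymm])
      set d : SpG 2 F := ⟨_, hdmem⟩
      apply not_noFour_mixed (X := d * x * d⁻¹) (F := F) ?_
      · have e : (QuotientGroup.mk (d * x * d⁻¹) : PSpG 2 F) =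
            (MulAut.conj (QuotientGroup.mk d : PSpG 2 F) *
              (MulAut.conj (QuotientGroup.mk s : PSpG 2 F))⁻¹ * β) (tel (ee 0 : Vec 2 F) 1) := by
          rw [MulAut.mul_apply, MulAut.mul_apply, hβ, MulAut.inv_apply_self, MulAut.conj_apply]
          rfl
        rw [e]
        exact noFour_map (noFour_tel h2 one_ne_zero) _
      · have e : (d * x * d⁻¹ : SpG 2 F).1 * d.1 = d.1 * x.1 := by
          rw [← Submonoid.coe_mul, inv_mul_cancel_right, Submonoid.coe_mul]
        have e2 : Matrix.fromBlocks 1 (Matrix.of ![![1, 1], ![1, 0]]) 0 1 * d.1 = d.1 * x.1 := by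
          rw [hx]
          show _ * Matrix.fromBlocks _ _ _ _ = Matrix.fromBlocks _ _ _ _ * _
          rw [fromBlocks_multiply, fromBlocks_multiply]
          simp only [Matrix.one_mul, Matrix.mul_one, Matrix.zero_mul, Matrix.mul_zero, add_zero,
            zero_add]
          congr 1
          have hA' : A * d0 * d0 = 1 := by rw [mul_assoc, ← hd0, mul_inv_cancel₀ hA]
          ext i j
          fin_cases i <;> fin_cases j <;> simp [Matrix.mul_apply, hd1] <;> field_simp
          linear_combination -hA'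
        have hu : IsUnit d.1 := IsUnit.of_mul_eq_one (d⁻¹ : SpG 2 F).1
          (by rw [← Submonoid.coe_mul, mul_inv_cancel, Submonoid.coe_one])
        exact hu.mul_right_cancel (e.trans e2.symm)
  exact presTel_of_one

end CharTwoSection

end CfsgLib.AutPSp
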