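import Cfsg.Agent.Lib.AutPSp.Card
import Cfsg.Agent.Lib.ClassicalGroups.EightIso

/-!
`Out(PSp₄(2^f))` is cyclic of order `2f`.
-/

set_option autoImplicit false
set_option linter.unusedSectionVars false

namespace CfsgLib.AutPSp

open Matrix Cfsg CfsgLib.Sp

variable {F : Type*} [Field F] [Fintype F] [CharP F 2]

theorem tmat_apply (v : Vec 2 F) (a : F) (k l : Ix4) :
    (tmat v a).1 k l = (Pi.single l 1 : Vec 2 F) k + a * sympForm 2 F (Pi.single l 1) v * v k := by
  have h := congrFun (sympTransvection_mulVec v a (Pi.single l 1 : Vec 2 F)) k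
  rw [Matrix.mulVec_single_one] at h
  simpa [tmat] using h

theorem graphHom_injective' : Function.Injective (graphHom : SpG 2 F →* SpG 2 F) := by
  rcases Nat.lt_or_ge (Fintype.card F) 4 with h | h
  swap
  · exact graphHom_injective h
  obtain ⟨k, -, hk⟩ := FiniteField.card F 2
  have hq : Fintype.card F = 2 := by
    rw [hk] at h ⊢
    rcases Nat.lt_or_ge (k : ℕ) 2 with h' | h'
    · rw [show (k : ℕ) = 1 by have := k.pos; omega, pow_one]
    · exact absurd (Nat.pow_le_pow_right (show 0 < 2 by omega) h') (by omega)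
  obtain ⟨e⟩ := CfsgLib.ClassicalGroups.sp_four_two_perm hq
  rw [← MonoidHom.ker_eq_bot_iff]
  by_contra hne
  set N := (graphHom (F := F)).ker.map e.toMonoidHom with hN
  have hNn : N.Normal := Subgroup.Normal.map inferInstance e.toMonoidHom e.surjective
  have hsimp : IsSimpleGroup (alternatingGroup (Fin 6)) := alternatingGroup.isSimpleGroup (by simp)
  have hAN : alternatingGroup (Fin 6) ≤ N := by
    rcases (hNn.subgroupOf (alternatingGroup (Fin 6))).eq_bot_or_eq_top with h1 | h1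
    · exfalso
      apply hne
      rw [eq_bot_iff]
      intro g hg
      have hz : e g ∈ Subgroup.center (Equiv.Perm (Fin 6)) := by
        rw [Subgroup.mem_center_iff]
        intro x
        have hmem : x * e g * x⁻¹ * (e g)⁻¹ ∈ N :=
          N.mul_mem (hNn.conj_mem _ ⟨g, hg, rfl⟩ x) (N.inv_mem ⟨g, hg, rfl⟩)
        have hA : x * e g * x⁻¹ * (e g)⁻¹ ∈ alternatingGroup (Fin 6) := by
          rw [Equiv.Perm.mem_alternatingGroup, map_mul, map_mul, map_mul, Equiv.Perm.sign_inv,
            Equiv.Perm.sign_inv]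
          rcases Int.units_eq_one_or (Equiv.Perm.sign x) with a | a <;>
            rcases Int.units_eq_one_or (Equiv.Perm.sign (e g)) with b | b <;> simp [a, b]
        have : (⟨_, hA⟩ : alternatingGroup (Fin 6)) ∈ N.subgroupOf (alternatingGroup (Fin 6)) := hmem
        rw [h1, Subgroup.mem_bot] at this
        have h2 : x * e g * x⁻¹ * (e g)⁻¹ = 1 := congrArg Subtype.val this
        calc x * e g = x * e g * x⁻¹ * (e g)⁻¹ * (e g * x) := by group
          _ = e g * x := by rw [h2, one_mul]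
      have hone : e g = 1 := by
        ext a
        by_contra hne'
        obtain ⟨c, hc⟩ : ∃ c : Fin 6, c ∉ ({a, e g a} : Finset (Fin 6)) := by
          by_contra hall
          push Not at hall
          have := Finset.card_le_card (fun c (_ : c ∈ Finset.univ) => hall c)
          simp only [Finset.card_univ, Fintype.card_fin] at this
          exact absurd (this.trans Finset.card_le_two) (by omega)
        simp only [Finset.mem_insert, Finset.mem_singleton, not_or] at hc
        have h := congrArg (fun p : Equiv.Perm (Fin 6) => p a)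
          (Subgroup.mem_center_iff.mp hz (Equiv.swap (e g a) c))
        simp only [Equiv.Perm.mul_apply, Equiv.swap_apply_left] at h
        rw [Equiv.swap_apply_of_ne_of_ne (fun e' : a = e g a => hne' (by rw [← e']; rfl)) (Ne.symm hc.1)] at h
        exact hc.2 h
      exact Subgroup.mem_bot.mpr (e.injective (hone.trans (map_one e).symm))
    · exact Subgroup.subgroupOf_eq_top.mp h1
  set t := tmat (ee 0 : Vec 2 F) 1
  set u := tmat (ff 0 : Vec 2 F) 1
  have hA : e (t * u * t⁻¹ * u⁻¹) ∈ alternatingGroup (Fin 6) := by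
    rw [Equiv.Perm.mem_alternatingGroup]
    simp only [map_mul, map_inv, Equiv.Perm.sign_inv]
    rcases Int.units_eq_one_or (Equiv.Perm.sign (e t)) with a | a <;>
      rcases Int.units_eq_one_or (Equiv.Perm.sign (e u)) with b | b <;> simp [a, b]
  obtain ⟨k, hk, hke⟩ := hAN hA
  have : t * u * t⁻¹ * u⁻¹ ∈ (graphHom (F := F)).ker := e.injective hke ▸ hk
  rw [MonoidHom.mem_ker, map_mul, map_mul, map_mul, map_inv, map_inv] at this
  have hcomm : graphHom t * graphHom u = graphHom u * graphHom t := by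
    calc graphHom t * graphHom u
        = graphHom t * graphHom u * (graphHom t)⁻¹ * (graphHom u)⁻¹ * (graphHom u * graphHom t) := by
          group
      _ = _ := by rw [this, one_mul]
  have h3 : graphMat (t.1) * graphMat (u.1) = graphMat u.1 * graphMat t.1 :=
    congrArg Subtype.val hcomm
  have h4 := congrFun (congrFun h3 (.inl 0)) (.inl 0)
  simp [graphMat, minor2, pairFst, pairSnd, Matrix.mul_apply, Fintype.sum_sum_type,
    t, u, tmat_apply, sympForm_char_two, Pi.single_apply, CharTwo.two_eq_zero] at h4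

theorem graphHom_short (a : F) :
    graphMat (shortMat a) = (tmat (ee 0 : Vec 2 F) (a ^ 2)).1 := by
  rw [tmat_ee_blocks]
  ext P Q
  rcases P with i | i <;> rcases Q with j | j <;> fin_cases i <;> fin_cases j <;>
    simp [graphMat, minor2, pairFst, pairSnd, shortMat, Matrix.one_apply, pow_two]

theorem out_psp_four {f : ℕ} (hF : Fintype.card F = 2 ^ f) :
    IsCyclic (Cfsg.Out (PSpG 2 F)) ∧ Nat.card (Cfsg.Out (PSpG 2 F)) = 2 * f := by
  classical
  have h2 : (2 : F) = 0 := CharTwo.two_eq_zero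
  let e : MulAut (SpG 2 F) :=
    MulEquiv.ofBijective graphHom (Finite.injective_iff_bijective.mp graphHom_injective')
  set γ : MulAut (PSpG 2 F) := CfsgLib.AutPSL.descendAut _ e
  have hγ : ∀ g : SpG 2 F, γ (QuotientGroup.mk g) = (QuotientGroup.mk (graphHom g) : PSpG 2 F) :=
    fun g => rfl
  set Φ : Subgroup (MulAut (PSpG 2 F)) := Cfsg.Inn (PSpG 2 F) ⊔ (fieldS : (F ≃+* F) →* _).range
    with hΦ
  have hinn : (conjS : ↥(GSp 2 F) →* MulAut (PSpG 2 F)).range = Cfsg.Inn (PSpG 2 F) := by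
    rw [← inndiag_eq_range, inndiag_eq_inn_of_char_two (by omega) h2]
  have hpres : ∀ β, PresTel β ↔ β ∈ Φ := by
    intro β
    constructor
    · intro h
      obtain ⟨g, σ, rfl⟩ := aut_psp_structure_of_pres (by omega) β (Or.inr h)
      exact Subgroup.mul_mem_sup (hinn ▸ ⟨g, rfl⟩) ⟨σ, rfl⟩
    · intro h
      rw [hΦ, Subgroup.mem_sup_of_normal_left] at h
      obtain ⟨d, hd, s, ⟨σ, rfl⟩, rfl⟩ := h
      rw [← hinn] at hd
      obtain ⟨g, rfl⟩ := hd
      intro v a
      obtain ⟨c, hc⟩ := g.2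
      exact ⟨_, _, by rw [MulAut.mul_apply, fieldS_tel, conjS_tel g hc]⟩
  have hγne : γ ∉ Φ := by
    intro h
    obtain ⟨w, b, hw⟩ := (hpres γ).mpr h (ee 0) 1
    rw [tel, tel, hγ] at hw
    exact graphHom_tmat_ne one_ne_zero w b (inv_mul_eq_one.mp (mk_eq_one_char_two h2 (by
      rw [QuotientGroup.mk_mul, QuotientGroup.mk_inv, hw, inv_mul_cancel])))
  have hsq : ∀ a, (γ * γ) (tel (ee 0 : Vec 2 F) a) = tel (ee 0) (a ^ 2) := by
    intro a
    rw [MulAut.mul_apply, tel, tel, hγ, hγ]
    refine congrArg _ (Subtype.ext ?_)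
    rw [graphHom_coe, graphHom_tmat, graphHom_short]
  have hγ2 : PresTel (γ * γ) := by
    rcases presTel_or γ hγ (γ * γ) with h | h
    · exact h
    · rw [inv_mul_cancel_left] at h
      exact absurd ((hpres γ).mp h) hγne
  obtain ⟨g, τ, hg⟩ := aut_psp_structure_of_pres (by omega) (γ * γ) (Or.inr hγ2)
  have hτ : ∀ a : F, τ a = a ^ 2 := by
    obtain ⟨c, hc⟩ := g.2
    have hsz : τ ∘ (ee 0 : Vec 2 F) = ee 0 := by
      funext k; simp [Pi.single_apply, apply_ite τ]
    have e : ∀ a, tel ((g.1 : Mat 2 F) *ᵥ ee 0) (τ a * ((c⁻¹ : Fˣ) : F)) =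
        tel (ee 0 : Vec 2 F) (a ^ 2) := by
      intro a
      rw [← conjS_tel g hc, ← hsq, hg, MulAut.mul_apply, fieldS_tel, hsz]
    have hw : (g.1 : Mat 2 F) *ᵥ ee 0 ≠ 0 := fun e0 => ee_ne_zero (F := F) (0 : Fin 2) (by
      have := congrArg (((g.1⁻¹ : GL (Fin 2 ⊕ Fin 2) F) : Mat 2 F) *ᵥ ·) e0
      simpa only [inv_mulVec_mulVec, mulVec_zero] using this)
    obtain ⟨k, hk⟩ := exists_smul_of_tel_eq hw (a := τ 1 * ((c⁻¹ : Fˣ) : F))
      (mul_ne_zero (by simp) (Units.ne_zero _)) (e 1)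
    have e2 : ∀ a, τ a * ((c⁻¹ : Fˣ) : F) * k * k = a ^ 2 := fun a =>
      tel_injective (ee_ne_zero 0) (by rw [← e, hk, tel_smul])
    intro a
    have h1 := e2 1
    rw [map_one, one_mul, one_pow] at h1
    rw [← e2, mul_assoc, mul_assoc, ← mul_assoc ((c⁻¹ : Fˣ) : F), h1, mul_one]
  set x : Cfsg.Out (PSpG 2 F) := QuotientGroup.mk γ
  set ρ : (F ≃+* F) →* Cfsg.Out (PSpG 2 F) :=
    (QuotientGroup.mk' (Cfsg.Inn (PSpG 2 F))).comp fieldS
  have hρinj : Function.Injective ρ := (injective_iff_map_eq_one ρ).mpr fun σ h => by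
    have hm : fieldS σ ∈ Cfsg.Inn (PSpG 2 F) := (QuotientGroup.eq_one_iff _).mp h
    rw [← hinn] at hm
    obtain ⟨k, hk⟩ := hm
    exact field_eq_one_of_conjS (by omega) hk
  have hx2 : x ^ 2 = ρ τ := by
    rw [pow_two]
    show (QuotientGroup.mk (γ * γ) : Cfsg.Out (PSpG 2 F)) = QuotientGroup.mk (fieldS τ)
    rw [hg, QuotientGroup.mk_mul, (QuotientGroup.eq_one_iff (conjS g)).mpr (hinn ▸ ⟨g, rfl⟩), one_mul]
  have hcardσ : Nat.card (F ≃+* F) = f := CfsgLib.FieldGalois.card_ringAut (p := 2) hF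
  have hord : orderOf τ = f := by
    have hτk : ∀ (k : ℕ) (a : F), (τ ^ k) a = a ^ 2 ^ k := by
      intro k
      induction k with
      | zero => simp
      | succ k ih => intro a; rw [pow_succ, RingAut.mul_apply, hτ, map_pow, ih, ← pow_mul, pow_succ]
    refine Nat.le_antisymm (hcardσ ▸ orderOf_le_card) ?_
    by_contra hlt
    push Not at hlt
    have hu : ∀ u : Fˣ, u ^ (2 ^ orderOf τ - 1) = 1 := fun u => by
      apply mul_right_cancel (b := u)
      rw [one_mul, ← pow_succ, Nat.sub_add_cancel (Nat.one_le_two_pow)]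
      exact Units.ext (by rw [Units.val_pow_eq_pow_val, ← hτk, pow_orderOf_eq_one]; rfl)
    have hdvd := (FiniteField.forall_pow_eq_one_iff F _).mp hu
    rw [hF] at hdvd
    have h1 : 2 ^ orderOf τ < 2 ^ f := Nat.pow_lt_pow_right (by omega) hlt
    have h3 : 1 < 2 ^ orderOf τ := Nat.one_lt_pow (orderOf_pos τ).ne' (by omega)
    have := Nat.le_of_dvd (by omega) hdvd
    omega
  have hx : orderOf x = 2 * f := by
    have h1 : orderOf (x ^ 2) = f := by rw [hx2, orderOf_injective ρ hρinj, hord]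
    have heven : 2 ∣ orderOf x := by
      by_contra hodd
      apply hγne
      obtain ⟨j, hj⟩ : Odd (orderOf x) := Nat.odd_iff.mpr (by omega)
      have e1 : x = (ρ τ ^ j)⁻¹ := by
        rw [← hx2, eq_inv_iff_mul_eq_one, ← pow_mul, ← pow_succ', ← hj, pow_orderOf_eq_one]
      rw [← map_pow, ← map_inv] at e1
      have hm := QuotientGroup.eq.mp e1.symm
      have hf' : fieldS (τ ^ j)⁻¹ ∈ Φ := Subgroup.mem_sup_right ⟨_, rfl⟩
      have := Φ.mul_mem hf' (Subgroup.mem_sup_left hm)
      rwa [mul_inv_cancel_left] at this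
    rw [orderOf_pow, Nat.gcd_eq_right heven] at h1
    omega
  have hcard : Nat.card (Cfsg.Out (PSpG 2 F)) = 2 * f := by
    set s : Set (MulAut (PSpG 2 F)) := {β | PresTel β}
    have hs : ∀ β, β ∈ s ↔ ∃ (g : ↥(GSp 2 F)) (σ : F ≃+* F), β = conjS g * fieldS σ := by
      intro β
      refine ⟨fun h => aut_psp_structure_of_pres (by omega) β (Or.inr h), ?_⟩
      rintro ⟨g, σ, rfl⟩ v a
      obtain ⟨c, hc⟩ := g.2
      exact ⟨_, _, by rw [MulAut.mul_apply, fieldS_tel, conjS_tel g hc]⟩
    have hsc : ∀ β, β ∈ sᶜ ↔ γ⁻¹ * β ∈ s := by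
      intro β
      refine ⟨fun h => (presTel_or γ hγ β).resolve_left h, fun h h' => hγne ?_⟩
      have := Φ.mul_mem ((hpres β).mp h') (Φ.inv_mem ((hpres _).mp h))
      rwa [_root_.mul_inv_rev, inv_inv, mul_inv_cancel_left] at this
    have e : Nat.card ↥(sᶜ) = Nat.card s := Nat.card_congr
      ((Equiv.mulLeft γ⁻¹).subtypeEquiv fun β => hsc β)
    have hA : Nat.card (MulAut (PSpG 2 F)) = 2 * (Nat.card (SpG 2 F) * f) := by
      rw [← hcardσ, ← card_gamma (s := s) (by omega) hs, two_mul,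
        ← Nat.card_congr (Equiv.Set.sumCompl s), Nat.card_sum, e]
    have hI : Nat.card (Cfsg.Inn (PSpG 2 F)) = Nat.card (SpG 2 F) := by
      rw [← hinn, card_range_conjS (by omega)]
    have h := (Cfsg.Inn (PSpG 2 F)).card_mul_index
    rw [hA, hI, Subgroup.index_eq_card] at h
    exact Nat.eq_of_mul_eq_mul_left (show 0 < Nat.card (SpG 2 F) from Nat.card_pos) (by rw [h]; ring)
  exact ⟨isCyclic_of_orderOf_eq_card x (hx.trans hcard.symm), hcard⟩

end CfsgLib.AutPSp
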