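import Cfsg.Agent.Lib.AutPSp.Basic
import Cfsg.Agent.Lib.AutPSL.Unitriangular
import Cfsg.Agent.Lib.Sp.Card

/-!
A Sylow `p`-subgroup of `PSp_{2m}(q)` and its centre; automorphisms map long root groups to long
root groups.
-/

set_option autoImplicit false

namespace CfsgLib.AutPSp

open Matrix Cfsg CfsgLib.Sp

variable {m : ℕ} {F : Type*} [Field F]

/-- Upper unitriangular. -/
def IsUpperOne (A : Matrix (Fin m) (Fin m) F) : Prop :=
  ∀ i j : Fin m, j ≤ i → A i j = if i = j then 1 else 0

theorem isUpperOne_mul {A B : Matrix (Fin m) (Fin m) F} (hA : IsUpperOne A) (hB : IsUpperOne B) :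
    IsUpperOne (A * B) := by
  intro i j hji
  rw [Matrix.mul_apply, Finset.sum_eq_single i]
  · rw [hA i i le_rfl, if_pos rfl, one_mul, hB i j hji]
  · intro k _ hki
    rcases lt_or_ge k i with h | h
    · rw [hA i k h.le, if_neg (fun e => hki e.symm), zero_mul]
    · have hik : i < k := lt_of_le_of_ne h (Ne.symm hki)
      rw [hB k j (hji.trans h), if_neg (by rintro rfl; exact (lt_irrefl i) (hik.trans_le hji)), mul_zero]
  · intro h; exact absurd (Finset.mem_univ i) h

theorem isUpperOne_one : IsUpperOne (1 : Matrix (Fin m) (Fin m) F) := fun i j _ => Matrix.one_apply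

theorem IsUpperOne.det {A : Matrix (Fin m) (Fin m) F} (hA : IsUpperOne A) : A.det = 1 := by
  rw [Matrix.det_of_isUpperTriangular]
  · exact Finset.prod_eq_one fun i _ => by rw [hA i i le_rfl, if_pos rfl]
  · intro i j (h : j < i)
    rw [hA i j h.le, if_neg h.ne']

/-- Membership in the standard maximal unipotent subgroup. -/
def IsUniS (x : SpG m F) : Prop := x.1.toBlocks₂₁ = 0 ∧ IsUpperOne x.1.toBlocks₁₁

theorem isUniS_mul {x y : SpG m F} (hx : IsUniS x) (hy : IsUniS y) : IsUniS (x * y) := by
  have e : (x * y).1 = Matrix.fromBlocks x.1.toBlocks₁₁ x.1.toBlocks₁₂ 0 x.1.toBlocks₂₂ *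
      Matrix.fromBlocks y.1.toBlocks₁₁ y.1.toBlocks₁₂ 0 y.1.toBlocks₂₂ := by
    have ex := fromBlocks_toBlocks x.1
    have ey := fromBlocks_toBlocks y.1
    rw [hx.1] at ex
    rw [hy.1] at ey
    rw [ex, ey]; rfl
  rw [Matrix.fromBlocks_multiply] at e
  constructor
  · rw [e, toBlocks_fromBlocks₂₁]; simp
  · rw [e, toBlocks_fromBlocks₁₁, mul_zero, add_zero]; exact isUpperOne_mul hx.2 hy.2

theorem isUniS_one : IsUniS (1 : SpG m F) := by
  have h : ((1 : SpG m F)).1 = Matrix.fromBlocks (1 : Matrix (Fin m) (Fin m) F) 0 0 1 :=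
    Matrix.fromBlocks_one.symm
  refine ⟨?_, ?_⟩ <;> rw [h]
  · exact toBlocks_fromBlocks₂₁ _ _ _ _
  · rw [toBlocks_fromBlocks₁₁]; exact isUpperOne_one

/-- The standard maximal unipotent subgroup. -/
def uniS (m : ℕ) (F : Type*) [Field F] [Finite F] : Subgroup (SpG m F) :=
  let M : Submonoid (SpG m F) :=
    { carrier := {s | IsUniS s}, mul_mem' := isUniS_mul, one_mem' := isUniS_one }
  { M with
    inv_mem' := fun {s} hs => by
      obtain ⟨k, hk⟩ : ∃ k : ℕ, s⁻¹ = s ^ k :=
        ⟨orderOf s - 1, inv_eq_of_mul_eq_one_right (by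
          rw [← pow_succ', Nat.sub_add_cancel (orderOf_pos s), pow_orderOf_eq_one])⟩
      rw [hk]; exact M.pow_mem hs k }

theorem blocks_of_isUniS {x : SpG m F} (hx : IsUniS x) :
    x.1.toBlocks₁₁.transpose * x.1.toBlocks₂₂ = 1 ∧
      (x.1.toBlocks₂₂.transpose * x.1.toBlocks₁₂).IsSymm := by
  have h := SymplecticGroup.mem_iff'.mp x.2
  rw [← fromBlocks_toBlocks x.1, hx.1, Matrix.J, fromBlocks_transpose, fromBlocks_multiply,
    fromBlocks_multiply] at h
  simp only [transpose_zero, mul_zero, zero_mul, add_zero, zero_add, mul_neg, mul_one, neg_mul,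
    Matrix.fromBlocks_inj] at h
  obtain ⟨-, h2, -, h4⟩ := h
  refine ⟨neg_injective (by simpa using h2), ?_⟩
  have h5 : x.1.toBlocks₂₂.transpose * x.1.toBlocks₁₂ -
      x.1.toBlocks₁₂.transpose * x.1.toBlocks₂₂ = 0 := by
    rw [← h4]; abel
  rw [Matrix.IsSymm, transpose_mul, transpose_transpose]
  exact (sub_eq_zero.mp h5).symm

theorem fromBlocks_mem {A D B : Matrix (Fin m) (Fin m) F} (h1 : A.transpose * D = 1)
    (h2 : (D.transpose * B).IsSymm) :
    Matrix.fromBlocks A B 0 D ∈ Matrix.symplecticGroup (Fin m) F := by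
  rw [SymplecticGroup.mem_iff', Matrix.J, fromBlocks_transpose, fromBlocks_multiply,
    fromBlocks_multiply]
  have h3 : D.transpose * A = 1 := by
    rw [← transpose_transpose A, ← transpose_mul, h1, transpose_one]
  rw [Matrix.IsSymm, transpose_mul, transpose_transpose] at h2
  simp [h1, h2, h3]

theorem uniS_ext [Finite F] {x y : uniS m F} (h1 : x.1.1.toBlocks₁₁ = y.1.1.toBlocks₁₁)
    (h2 : x.1.1.toBlocks₂₂.transpose * x.1.1.toBlocks₁₂ =
      y.1.1.toBlocks₂₂.transpose * y.1.1.toBlocks₁₂) : x = y := by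
  obtain ⟨e1, -⟩ := blocks_of_isUniS x.2
  obtain ⟨e2, -⟩ := blocks_of_isUniS y.2
  rw [← h1] at e2
  have e3 : x.1.1.toBlocks₁₁.transpose⁻¹ = x.1.1.toBlocks₂₂ := Matrix.inv_eq_right_inv e1
  have e4 : x.1.1.toBlocks₁₁.transpose⁻¹ = y.1.1.toBlocks₂₂ := Matrix.inv_eq_right_inv e2
  have hD : x.1.1.toBlocks₂₂ = y.1.1.toBlocks₂₂ := e3 ▸ e4
  rw [← hD] at h2
  have h5 := congrArg (fun M => x.1.1.toBlocks₁₁ * M) h2
  have e5 : x.1.1.toBlocks₁₁ * x.1.1.toBlocks₂₂.transpose = 1 := by
    rw [← transpose_transpose x.1.1.toBlocks₁₁, ← transpose_mul, mul_eq_one_comm.mp e1, transpose_one]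
  simp only [← Matrix.mul_assoc, e5, one_mul] at h5
  apply Subtype.ext; apply Subtype.ext
  rw [← fromBlocks_toBlocks x.1.1, ← fromBlocks_toBlocks y.1.1, h1, h5, hD, x.2.1, y.2.1]

/-- Coordinates of the maximal unipotent subgroup. -/
noncomputable def uniSEquiv [Finite F] :
    uniS m F ≃ {A : Matrix (Fin m) (Fin m) F // IsUpperOne A} ×
      {S : Matrix (Fin m) (Fin m) F // S.transpose = S} where
  toFun x := (⟨x.1.1.toBlocks₁₁, x.2.2⟩,
    ⟨x.1.1.toBlocks₂₂.transpose * x.1.1.toBlocks₁₂, (blocks_of_isUniS x.2).2⟩)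
  invFun p := ⟨⟨Matrix.fromBlocks p.1.1 (p.1.1 * p.2.1) 0 p.1.1.transpose⁻¹, fromBlocks_mem
      (Matrix.mul_nonsing_inv _ (by rw [det_transpose, p.1.2.det]; exact isUnit_one)) (by
        rw [Matrix.transpose_nonsing_inv, transpose_transpose,
          Matrix.nonsing_inv_mul_cancel_left _ _ (by rw [p.1.2.det]; exact isUnit_one)]
        exact p.2.2)⟩,
    ⟨toBlocks_fromBlocks₂₁ _ _ _ _, by rw [toBlocks_fromBlocks₁₁]; exact p.1.2⟩⟩
  left_inv x := uniS_ext (toBlocks_fromBlocks₁₁ _ _ _ _) (by
    simp only [toBlocks_fromBlocks₂₂, toBlocks_fromBlocks₁₂]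
    rw [Matrix.transpose_nonsing_inv, transpose_transpose,
      Matrix.nonsing_inv_mul_cancel_left _ _ (by rw [x.2.2.det]; exact isUnit_one)])
  right_inv p := by
    refine Prod.ext (Subtype.ext (toBlocks_fromBlocks₁₁ _ _ _ _)) (Subtype.ext ?_)
    simp only [toBlocks_fromBlocks₂₂, toBlocks_fromBlocks₁₂]
    rw [Matrix.transpose_nonsing_inv, transpose_transpose,
      Matrix.nonsing_inv_mul_cancel_left _ _ (by rw [p.1.2.det]; exact isUnit_one)]

variable [Fintype F]

theorem card_upperOne :
    Nat.card {A : Matrix (Fin m) (Fin m) F // IsUpperOne A} = Fintype.card F ^ m.choose 2 := by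
  have e : {A : Matrix (Fin m) (Fin m) F // IsUpperOne A} ≃
      ↥(CfsgLib.AutPSL.uni m F) :=
    { toFun := fun A => ⟨⟨A.1, A.2.det⟩, A.2⟩
      invFun := fun s => ⟨s.1.1, s.2⟩
      left_inv := fun A => rfl
      right_inv := fun s => rfl }
  rw [Nat.card_congr e, CfsgLib.AutPSL.card_uni]
  congr 1
  rw [Fin.sum_univ_eq_sum_range (fun i => i) m, Finset.sum_range_id, Nat.choose_two_right]

theorem card_uniS : Nat.card (uniS m F) = Fintype.card F ^ m ^ 2 := by
  rw [Nat.card_congr uniSEquiv, Nat.card_prod, card_upperOne, card_symmetric rfl, ← pow_add,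
    choose_two_succ_add]

theorem not_dvd_index_uniS {p : ℕ} [hp : Fact p.Prime] [CharP F p] : ¬ p ∣ (uniS m F).index := by
  obtain ⟨f, -, hq⟩ := FiniteField.card F p
  have hpd : p ∣ Fintype.card F := hq ▸ dvd_pow_self p f.pos.ne'
  intro hdvd
  have h := card_symplecticGroup (F := F) (m := m) (q := Fintype.card F) rfl
  rw [← (uniS m F).card_mul_index, card_uniS] at h
  have h'' := Nat.eq_of_mul_eq_mul_left (pow_pos Fintype.card_pos _) h
  rw [h''] at hdvd
  obtain ⟨i, -, hi⟩ := (Prime.dvd_finsetProd_iff hp.out.prime _).mp hdvd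
  have h1 : p ∣ Fintype.card F ^ (2 * ((i : ℕ) + 1)) := dvd_pow hpd (by omega)
  have h3 : 1 ≤ Fintype.card F ^ (2 * ((i : ℕ) + 1)) := Nat.one_le_pow _ _ Fintype.card_pos
  have h4 := Nat.dvd_sub h1 hi
  rw [Nat.sub_sub_self h3] at h4
  exact hp.out.one_lt.ne' (Nat.dvd_one.mp h4)

theorem isPGroup_uniS {p : ℕ} [Fact p.Prime] [CharP F p] : IsPGroup p (uniS m F) := by
  obtain ⟨f, -, hq⟩ := FiniteField.card F p
  exact IsPGroup.of_card (n := f * m ^ 2) (by rw [card_uniS, hq, pow_mul])

/-- The unipotent Sylow subgroup of `PSp`. -/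
noncomputable def sylowS (p : ℕ) [Fact p.Prime] [CharP F p] : Sylow p (PSpG m F) :=
  (isPGroup_uniS.toSylow not_dvd_index_uniS).mapSurjective (f := QuotientGroup.mk' _)
    (QuotientGroup.mk'_surjective _)

omit [Fintype F] in
theorem tmat_ee_blocks (z : Fin m) (a : F) :
    (tmat (ee z : Vec m F) a).1 = Matrix.fromBlocks 1 (Matrix.single z z a) 0 1 := by
  apply Matrix.ext_of_mulVec_single
  intro j
  show sympTransvection m _ a *ᵥ _ = _
  rw [sympTransvection_mulVec, form_ee_right, Matrix.mulVec_single_one]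
  ext i
  simp only [Pi.add_apply, Pi.smul_apply, smul_eq_mul, ee, Pi.single_apply, Matrix.col_apply]
  rcases j with j | j <;> rcases i with i | i <;>
    simp only [fromBlocks_apply₁₁, fromBlocks_apply₁₂, fromBlocks_apply₂₁, fromBlocks_apply₂₂,
      Matrix.one_apply, Matrix.single_apply, Matrix.zero_apply, Sum.inl.injEq, Sum.inr.injEq,
      reduceCtorEq, if_false, mul_zero, zero_mul, add_zero, zero_add]
  by_cases h1 : z = j <;> by_cases h2 : i = z <;> grind

theorem tmat_ee_mem (z : Fin m) (a : F) : tmat (ee z : Vec m F) a ∈ uniS m F := by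
  refine ⟨?_, ?_⟩ <;> rw [tmat_ee_blocks]
  · exact toBlocks_fromBlocks₂₁ _ _ _ _
  · rw [toBlocks_fromBlocks₁₁]; exact isUpperOne_one

theorem tmat_ee_central {z : Fin m} (h0 : ∀ i, z ≤ i) (a : F) {u : SpG m F} (hu : u ∈ uniS m F) :
    Commute (tmat (ee z : Vec m F) a) u := by
  have e := conj_tmat u (ee z : Vec m F) a
  have hfix : u.1 *ᵥ (ee z : Vec m F) = ee z := by
    rw [← fromBlocks_toBlocks u.1, hu.1]
    ext (i | i)
    · simp [ee, hu.2 i z (h0 i), Pi.single_apply]
    · simp [ee]
  rw [hfix] at e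
  exact (mul_inv_eq_iff_eq_mul.mp e).symm

/-- Centre of the unipotent subgroup: what commuting with everything forces. -/
theorem central_blocks {x : SpG m F} (hx : x ∈ uniS m F) (hc : ∀ u ∈ uniS m F, Commute x u)
    {z : Fin m} (h0 : ∀ i, z ≤ i) :
    ∃ S : Matrix (Fin m) (Fin m) F, x.1 = Matrix.fromBlocks 1 S 0 1 ∧ S.transpose = S ∧
      ∀ k l : Fin m, k < l → (∀ j, j ≠ k → S l j = 0) ∧ S k l + S l k = 0 := by
  obtain ⟨hAD, -⟩ := blocks_of_isUniS hx
  have hA : x.1.toBlocks₁₁ = 1 := by
    ext j i
    by_cases hji : j = i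
    · subst hji; rw [hx.2 j j le_rfl, if_pos rfl, Matrix.one_apply_eq]
    · have hmem : Matrix.fromBlocks (1 : Matrix (Fin m) (Fin m) F) (Matrix.single i i 1) 0 1 ∈
          Matrix.symplecticGroup (Fin m) F :=
        fromBlocks_mem (by simp) (by simp [Matrix.IsSymm, Matrix.transpose_single])
      have h := congrArg Subtype.val (hc ⟨_, hmem⟩ ⟨toBlocks_fromBlocks₂₁ _ _ _ _, by
        rw [toBlocks_fromBlocks₁₁]; exact isUpperOne_one⟩).eq
      simp only [Submonoid.coe_mul] at h
      rw [← fromBlocks_toBlocks x.1, hx.1, fromBlocks_multiply, fromBlocks_multiply] at h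
      simp only [mul_one, one_mul, zero_mul, mul_zero, add_zero, zero_add, Matrix.fromBlocks_inj] at h
      have h2 := congrFun (congrFun h.2.1 j) i
      simp [Matrix.mul_single_apply_same, hji] at h2
      rw [Matrix.one_apply_ne hji]
      exact h2
  have hD : x.1.toBlocks₂₂ = 1 := by rw [hA, transpose_one, one_mul] at hAD; exact hAD
  set S := x.1.toBlocks₁₂ with hS
  have hxe : x.1 = Matrix.fromBlocks 1 S 0 1 := by
    conv_lhs => rw [← fromBlocks_toBlocks x.1, hx.1, hA, hD]
  refine ⟨S, hxe, ?_, fun k l hkl => ?_⟩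
  · have := (blocks_of_isUniS hx).2
    rw [hD, transpose_one, one_mul] at this
    exact this
  · have hup : IsUpperOne (1 + Matrix.single k l (1 : F)) := by
      intro i j hji
      rw [Matrix.add_apply, Matrix.one_apply, Matrix.single_apply,
        if_neg (show ¬(k = i ∧ l = j) from fun e => hkl.not_ge (e.1 ▸ e.2 ▸ hji)), add_zero]
    have hmem : Matrix.fromBlocks (1 + Matrix.single k l (1 : F)) 0 0 (1 - Matrix.single l k 1) ∈
        Matrix.symplecticGroup (Fin m) F :=
      fromBlocks_mem (by
        simp [transpose_single, add_mul, mul_sub, Matrix.single_mul_single_of_ne, hkl.ne])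
        (by simp [Matrix.IsSymm])
    have h := congrArg Subtype.val (hc ⟨_, hmem⟩ ⟨toBlocks_fromBlocks₂₁ _ _ _ _, by
      rw [toBlocks_fromBlocks₁₁]; exact hup⟩).eq
    simp only [Submonoid.coe_mul] at h
    rw [hxe, fromBlocks_multiply, fromBlocks_multiply] at h
    simp only [mul_one, one_mul, zero_mul, mul_zero, add_zero, zero_add, mul_sub, add_mul,
      Matrix.fromBlocks_inj] at h
    have h2 : - (S * Matrix.single l k (1 : F)) = Matrix.single k l 1 * S := by
      have := h.2.1
      rw [sub_eq_add_neg, add_right_inj] at this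
      exact this
    refine ⟨fun j hj => ?_, ?_⟩
    · have := congrFun (congrFun h2 k) j
      simpa [Matrix.single_mul_apply_same, Matrix.mul_single_apply_of_ne (hbj := hj)] using this.symm
    · have := congrFun (congrFun h2 k) k
      simp [Matrix.single_mul_apply_same, Matrix.mul_single_apply_same] at this
      rw [← this]; ring

omit [Fintype F]

/-- `x + a ω(x,u) u + c (ω(x,u) w + ω(x,w) u)`. -/
def shortVec (u w : Vec m F) (a c : F) (x : Vec m F) : Vec m F :=
  x + (a * sympForm m F x u + c * sympForm m F x w) • u + (c * sympForm m F x u) • w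

/-- If `(y^4 = 1 → y^2 = 1)` for every product of `X` with a conjugate. -/
def NoFour (X : PSpG m F) : Prop :=
  ∀ g : PSpG m F, (X * MulAut.conj g X) ^ 4 = 1 → (X * MulAut.conj g X) ^ 2 = 1

theorem noFour_map {X : PSpG m F} (h : NoFour X) (β : MulAut (PSpG m F)) : NoFour (β X) := by
  intro g hg
  obtain ⟨g, rfl⟩ := β.surjective g
  have e : β X * MulAut.conj (β g) (β X) = β (X * MulAut.conj g X) := by simp
  rw [e, ← map_pow, map_eq_one_iff β β.injective] at hg ⊢
  exact h g hg

theorem mk_eq_one_char_two (h2 : (2 : F) = 0) {A : SpG m F}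
    (h : (QuotientGroup.mk A : PSpG m F) = 1) : A = 1 := by
  rw [← QuotientGroup.mk_one] at h
  obtain ⟨z, hz, hA⟩ := mk_eq_iff.mp h
  have : z = 1 := by
    rcases hz with rfl | rfl
    · rfl
    · linear_combination -h2
  rw [this, one_smul] at hA
  exact Subtype.ext hA

theorem noFour_tel (h2 : (2 : F) = 0) {v : Vec m F} {a : F} (ha : a ≠ 0) : NoFour (tel v a) := by
  intro g
  obtain ⟨s, rfl⟩ := QuotientGroup.mk_surjective g
  rw [tel_conj_sp]
  intro h4
  rw [tel, tel, ← QuotientGroup.mk_mul, ← QuotientGroup.mk_pow] at h4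
  have h4' := mk_eq_one_char_two h2 h4
  set w := s.1 *ᵥ v with hw
  set p := sympForm m F v w with hp
  have hsq : ∀ (u : Vec m F) (b : F), tmat u b * tmat u b = 1 := fun u b => by
    rw [tmat_mul, show b + b = 0 by linear_combination b * h2, tmat_zero]
  by_cases hp0 : p = 0
  · have hcomm : Commute (tmat v a) (tmat w a) := by
      apply Subtype.ext
      apply Matrix.ext_of_mulVec_single
      intro j
      have h' : sympForm m F w v = 0 := by rw [sympForm_flip, ← hp, hp0, neg_zero]
      show (sympTransvection m v a * sympTransvection m w a) *ᵥ _ =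
        (sympTransvection m w a * sympTransvection m v a) *ᵥ _
      simp only [← mulVec_mulVec, sympTransvection_mulVec, form_add_left, form_smul_left, ← hp, hp0, h',
        mul_zero, add_zero]
      module
    rw [tel, tel, ← QuotientGroup.mk_mul, ← QuotientGroup.mk_pow, hcomm.mul_pow, pow_two, pow_two,
      hsq, hsq, one_mul, QuotientGroup.mk_one]
  · exfalso
    have hwv : sympForm m F w v = p := by rw [sympForm_flip, ← hp]; linear_combination -p * h2
    have hM : ∀ x, (tmat v a * tmat w a).1 *ᵥ x = x + (a * sympForm m F x w) • w +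
        (a * sympForm m F (x + (a * sympForm m F x w) • w) v) • v := fun x => by
      show (sympTransvection m v a * sympTransvection m w a) *ᵥ x = _
      rw [← mulVec_mulVec, sympTransvection_mulVec, sympTransvection_mulVec]
    set M := (tmat v a * tmat w a).1 with hMdef
    have hMw : M *ᵥ w = w + (a * p) • v := by
      rw [hM, sympForm_self, mul_zero, zero_smul, add_zero, hwv]
    have hMv : M *ᵥ v = v + (a * p) • w + (a * (a * p * p)) • v := by
      rw [hM, ← hp, form_add_left, form_smul_left, sympForm_self, hwv, zero_add]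
    have h1 : M *ᵥ (M *ᵥ (M *ᵥ (M *ᵥ w))) = w := by
      have := congrArg (fun A : SpG m F => A.1 *ᵥ w) h4'
      simpa [pow_succ, Submonoid.coe_mul, ← mulVec_mulVec, mul_assoc, hMdef] using this
    have h3 := congrArg (fun x => sympForm m F x w) h1
    simp only [hMw, hMv, mulVec_add, mulVec_smul, smul_add, form_add_left, form_smul_left,
      sympForm_self, ← hp] at h3
    have h5 : a * p * (a * (a * p * p)) ^ 3 = 0 ∨ p = 0 := by
      left
      have : (a * p * (a * (a * p * p)) ^ 3) * p = 0 := by
        linear_combination h3 - a * p * p * (2 + 5 * (a * p * (a * p)) + 3 * (a * p * (a * p)) ^ 2) * h2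
      exact (mul_eq_zero.mp this).resolve_right hp0
    rcases h5 with h5 | h5
    · exact mul_ne_zero (mul_ne_zero ha hp0)
        (pow_ne_zero 3 (mul_ne_zero ha (mul_ne_zero (mul_ne_zero ha hp0) hp0))) h5
    · exact hp0 h5

theorem not_noFour_short (h2 : (2 : F) = 0) (hm : 3 ≤ m) {X : SpG m F} {a c : F} (hc : c ≠ 0)
    (hX : ∀ v, X.1 *ᵥ v = shortVec (ee ⟨0, by omega⟩) (ee ⟨1, by omega⟩) a c v) :
    ¬ NoFour (QuotientGroup.mk X : PSpG m F) := by
  set z : Fin m := ⟨0, by omega⟩
  set o : Fin m := ⟨1, by omega⟩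
  set t : Fin m := ⟨2, by omega⟩
  have hzo : z ≠ o := by simp [z, o, Fin.ext_iff]
  have hzt : z ≠ t := by simp [z, t, Fin.ext_iff]
  have hot : o ≠ t := by simp [o, t, Fin.ext_iff]
  have hneg : ∀ r : F, -r = r := fun r => by linear_combination -r * h2
  -- an element moving the pair `(e₀, e₁)` to `(e₂, f₁)`
  obtain ⟨g, hg⟩ := witt_matrix (F := F) (m := m) ![ee z, ee o] ![ee t, ff o]
    (by
      rw [linearIndependent_fin2]
      exact ⟨ee_ne_zero o, fun b hb => by
        have := congrFun hb (Sum.inl z); simp [ee, hzo] at this⟩)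
    (by
      rw [linearIndependent_fin2]
      exact ⟨ff_ne_zero o, fun b hb => by
        have := congrFun hb (Sum.inl t); simp [ee, ff] at this⟩)
    (by
      intro i j
      fin_cases i <;> fin_cases j <;>
        simp [form_ee_right, form_ff_right, sympForm_self, ee, ff, hot, hot.symm, hzo, hzo.symm])
  have hgz : g.1 *ᵥ (ee z : Vec m F) = ee t := hg 0
  have hgo : g.1 *ᵥ (ee o : Vec m F) = ff o := hg 1
  set Y := g * X * g⁻¹ with hY
  have hginv : ∀ v, g.1 *ᵥ ((g⁻¹ : SpG m F).1 *ᵥ v) = v := fun v => by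
    rw [mulVec_mulVec, ← Submonoid.coe_mul, mul_inv_cancel, Submonoid.coe_one, one_mulVec]
  have hYv : ∀ v, Y.1 *ᵥ v = shortVec (ee t) (ff o) a c v := by
    intro v
    show (g.1 * X.1 * (g⁻¹ : SpG m F).1) *ᵥ v = _
    rw [← mulVec_mulVec, ← mulVec_mulVec, hX]
    simp only [shortVec, mulVec_add, mulVec_smul, hgz, hgo, hginv]
    have e1 := sympForm_mulVec g ((g⁻¹ : SpG m F).1 *ᵥ v) (ee z)
    have e2 := sympForm_mulVec g ((g⁻¹ : SpG m F).1 *ᵥ v) (ee o)
    rw [hginv, hgz] at e1
    rw [hginv, hgo] at e2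
    rw [e1, e2]
  set M := X * Y with hM
  have hMv : ∀ v : Vec m F, M.1 *ᵥ v = v +
      (a * v (.inr z) + c * v (.inr o) + c * c * v (.inr t)) • ee z +
      (c * v (.inr z)) • ee o + (a * v (.inr t) + c * v (.inl o)) • ee t +
      (c * v (.inr t)) • ff o := by
    intro v
    show (X.1 * Y.1) *ᵥ v = _
    rw [← mulVec_mulVec, hYv, hX]
    simp only [shortVec, form_add_left, form_smul_left, form_ee_right, form_ff_right, ee, ff,
      Pi.single_apply, hneg]
    simp [hzo, hzt, hot, hzo.symm, hzt.symm, hot.symm]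
    module
  have hMM : ∀ v : Vec m F, M.1 *ᵥ (M.1 *ᵥ v) =
      v + (c * c * v (.inr t)) • ee z + (c * c * v (.inr z)) • ee t := by
    intro v
    have hfz : M.1 *ᵥ (ee z : Vec m F) = ee z := by
      rw [hMv]; simp [ee, ff, Pi.single_apply, hzo, hzo.symm]
    have hft : M.1 *ᵥ (ee t : Vec m F) = ee t := by
      rw [hMv]; simp [ee, ff, hot, hot.symm]
    have hfo : M.1 *ᵥ (ee o : Vec m F) = ee o + c • ee t := by
      rw [hMv]; simp [ee, ff]
    have hgo' : M.1 *ᵥ (ff o : Vec m F) = ff o + c • ee z := by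
      rw [hMv]; simp [ee, ff, Pi.single_apply, hzo, hzo.symm, hot.symm]
    conv_lhs => rw [hMv v]
    simp only [mulVec_add, mulVec_smul, hfz, hft, hfo, hgo', smul_add, smul_smul]
    rw [hMv v]
    ext k
    simp only [Pi.add_apply, Pi.smul_apply, smul_eq_mul]
    linear_combination ((a * v (.inr z) + c * v (.inr o) + c * c * v (.inr t)) * (ee z : Vec m F) k +
      c * v (.inr z) * (ee o : Vec m F) k + (a * v (.inr t) + c * v (.inl o)) * (ee t : Vec m F) k +
      c * v (.inr t) * (ff o : Vec m F) k) * h2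
  intro hN
  have hconj : (QuotientGroup.mk X : PSpG m F) *
      MulAut.conj (QuotientGroup.mk g : PSpG m F) (QuotientGroup.mk X) = QuotientGroup.mk M := by
    rw [MulAut.conj_apply, ← QuotientGroup.mk_inv, ← QuotientGroup.mk_mul, ← QuotientGroup.mk_mul,
      ← QuotientGroup.mk_mul]
  have h4 : M ^ 4 = 1 := by
    apply Subtype.ext
    apply Matrix.ext_of_mulVec_single
    intro j
    generalize (Pi.single j 1 : Vec m F) = v
    rw [Submonoid.coe_one, one_mulVec]
    simp only [pow_succ, pow_zero, one_mul, Submonoid.coe_mul, ← mulVec_mulVec]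
    rw [hMM (M.1 *ᵥ (M.1 *ᵥ v)), hMM v]
    ext k
    simp only [Pi.add_apply, Pi.smul_apply, smul_eq_mul, ee, Pi.single_apply]
    simp [hzt, hzt.symm]
    linear_combination ((if k = Sum.inl z then c * c * v (.inr t) else 0) +
      (if k = Sum.inl t then c * c * v (.inr z) else 0)) * h2
  have h := hN (QuotientGroup.mk g)
  rw [hconj, ← QuotientGroup.mk_pow, ← QuotientGroup.mk_pow, h4] at h
  have h22 := mk_eq_one_char_two h2 (h rfl)
  have := congrArg (fun A : SpG m F => (A.1 *ᵥ (ff t : Vec m F)) (Sum.inl z)) h22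
  simp only [pow_two, Submonoid.coe_mul, ← mulVec_mulVec, hMM, Submonoid.coe_one, one_mulVec] at this
  simp [ee, ff, hzt] at this
  exact hc this

variable [Fintype F]

/-- `β` maps transvections to transvections. -/
def PresTel (β : MulAut (PSpG m F)) : Prop :=
  ∀ (v : Vec m F) (a : F), ∃ (w : Vec m F) (b : F), β (tel v a) = tel w b

/-- Automorphisms map long root groups to long root groups (transvection-preserving automorphisms
in every case). -/
theorem exists_image_of_pres (hm : 1 ≤ m) (β : MulAut (PSpG m F))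
    (hcase : ((2 : F) ≠ 0 ∨ 3 ≤ m) ∨ PresTel β) {v : Vec m F}
    (hv : v ≠ 0) : ∃ w : Vec m F, w ≠ 0 ∧ ∀ a : F, ∃ b : F, β (tel v a) = tel w b := by
  obtain ⟨p, hp⟩ := CharP.exists F
  have : Fact p.Prime := ⟨CharP.char_is_prime F p⟩
  set z : Fin m := ⟨0, by omega⟩
  have h0 : ∀ i : Fin m, z ≤ i := fun i => by simp [z, Fin.le_def]
  obtain ⟨A, hA⟩ := transitive_ne_zero_matrix (ee z : Vec m F) v (ee_ne_zero z) hv
  set β' := β * MulAut.conj (QuotientGroup.mk A : PSpG m F) with hβ'
  set P := sylowS (F := F) (m := m) p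
  obtain ⟨g, hg⟩ := MulAction.exists_smul_eq (PSpG m F) P (β' • P)
  have hmem : ∀ y, y ∈ P ↔ (MulAut.conj g)⁻¹ (β' y) ∈ P := by
    intro y
    have h1 : β' y ∈ (β' • P : Sylow p (PSpG m F)) ↔ y ∈ P :=
      Subgroup.smul_mem_pointwise_smul_iff (a := β') (S := (P : Subgroup (PSpG m F)))
    rw [← h1, ← hg]
    exact Subgroup.mem_pointwise_smul_iff_inv_smul_mem
  obtain ⟨s, rfl⟩ := QuotientGroup.mk_surjective g
  refine ⟨s.1 *ᵥ ee z, ?_, fun a => ?_⟩
  · intro h
    apply ee_ne_zero (F := F) z
    have := congrArg ((s⁻¹ : SpG m F).1 *ᵥ ·) h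
    rwa [mulVec_mulVec, ← Submonoid.coe_mul, inv_mul_cancel, Submonoid.coe_one, one_mulVec,
      mulVec_zero] at this
  · rw [← hA, ← tel_conj_sp, ← MulAut.mul_apply, ← hβ']
    rcases eq_or_ne a 0 with rfl | ha
    · exact ⟨0, by rw [tel_zero, map_one, tel_zero]⟩
    set y := (MulAut.conj (QuotientGroup.mk s : PSpG m F))⁻¹ (β' (tel (ee z) a)) with hy
    have hyP : y ∈ P := (hmem _).mp ⟨_, tmat_ee_mem z a, rfl⟩
    obtain ⟨x, hx, hxy⟩ := hyP
    have hcomm : ∀ u ∈ uniS m F, Commute x u := by
      intro u hu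
      have h1 : Commute y (QuotientGroup.mk u : PSpG m F) := by
        obtain ⟨y', hy'⟩ := ((β'.trans (MulAut.conj (QuotientGroup.mk s : PSpG m F))⁻¹)).surjective
          (QuotientGroup.mk u)
        have hy'P : y' ∈ P := (hmem y').mpr (by
          rw [show (MulAut.conj (QuotientGroup.mk s : PSpG m F))⁻¹ (β' y') =
            (QuotientGroup.mk u : PSpG m F) from hy']
          exact ⟨u, hu, rfl⟩)
        obtain ⟨u', hu', rfl⟩ := hy'P
        rw [← hy']
        exact (((tmat_ee_central h0 a hu').map (QuotientGroup.mk' _)).map β'.toMonoidHom).map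
          (MulAut.conj (QuotientGroup.mk s : PSpG m F))⁻¹.toMonoidHom
      have h3 : (QuotientGroup.mk (x * u) : PSpG m F) = QuotientGroup.mk (u * x) := by
        rw [QuotientGroup.mk_mul, QuotientGroup.mk_mul]
        have hxy' : (QuotientGroup.mk x : PSpG m F) = y := hxy
        rw [hxy']
        exact h1
      obtain ⟨ζ, -, he⟩ := mk_eq_iff.mp h3
      have h4 := congrFun (congrFun he (Sum.inl z)) (Sum.inl z)
      have hd : ∀ q ∈ uniS m F, (q : SpG m F).1 (Sum.inl z) (Sum.inl z) = 1 := fun q hq => by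
        have := hq.2 z z le_rfl
        simpa [toBlocks₁₁] using this
      rw [Matrix.smul_apply, hd _ (mul_mem hx hu), hd _ (mul_mem hu hx), smul_eq_mul, mul_one] at h4
      rw [h4, one_smul] at he
      exact Subtype.ext he
    obtain ⟨S, hxe, hSsymm, hS⟩ := central_blocks hx hcomm h0
    have hsym : ∀ i j, S i j = S j i := fun i j => (congrFun (congrFun hSsymm j) i)
    -- all entries of `S` vanish but at `(0,0)`, `(0,1)`, `(1,0)`
    have hrow : ∀ l : Fin m, 2 ≤ (l : ℕ) → ∀ j, S l j = 0 := by
      intro l hl j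
      rcases eq_or_ne j z with rfl | hj
      · exact (hS ⟨1, by omega⟩ l (by simp [Fin.lt_def]; omega)).1 _ (by simp [z, Fin.ext_iff])
      · exact (hS z l (by simp [z, Fin.lt_def]; omega)).1 j hj
    have hoff : ∀ i j : Fin m, ¬(i = z ∧ j = z) → ¬((i : ℕ) + j = 1) → S i j = 0 := by
      intro i j h1 h2
      rcases Nat.lt_or_ge (i : ℕ) 2 with hi | hi
      · rcases Nat.lt_or_ge (j : ℕ) 2 with hj | hj
        · have hi1 : (i : ℕ) = 1 ∧ (j : ℕ) = 1 := by
            simp only [z, Fin.ext_iff] at h1
            omega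
          exact (hS z i (by simp [z, Fin.lt_def]; omega)).1 j (by simp [z, Fin.ext_iff]; omega)
        · rw [hsym]; exact hrow j hj i
      · exact hrow i hi j
    suffices hfin : x = tmat (ee z : Vec m F) (S z z) by
      refine ⟨S z z, ?_⟩
      rw [← tel_conj_sp]
      apply (MulAut.conj (QuotientGroup.mk s : PSpG m F))⁻¹.injective
      rw [← hy, MulAut.inv_apply_self, ← hxy, hfin]
      rfl
    apply Subtype.ext
    rw [tmat_ee_blocks, hxe]
    congr 1
    ext i j
    rw [Matrix.single_apply]
    by_cases hij : i = z ∧ j = z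
    · rw [hij.1, hij.2, if_pos ⟨rfl, rfl⟩]
    rw [if_neg (fun e => hij ⟨e.1.symm, e.2.symm⟩)]
    by_cases h1 : (i : ℕ) + j = 1
    · have hm2 : 1 < m := by have := i.2; have := j.2; omega
      set o : Fin m := ⟨1, hm2⟩
      have hc : S z o = 0 := by
        rcases hcase with (h2 | h3) | hP
        rotate_left 2
        · by_cases h2 : (2 : F) = 0
          · obtain ⟨w, b, hwb⟩ := hP (A.1 *ᵥ ee z) a
            have hy' : y = tel ((s⁻¹ : SpG m F).1 *ᵥ w) b := by
              rw [hy, hβ', MulAut.mul_apply, tel_conj_sp, hwb, ← map_inv, ← QuotientGroup.mk_inv,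
                tel_conj_sp]
            set w' := (s⁻¹ : SpG m F).1 *ᵥ w
            have hxw : x = tmat w' b := by
              have e : (QuotientGroup.mk x : PSpG m F) = QuotientGroup.mk (tmat w' b) := hxy.trans hy'
              exact mul_inv_eq_one.mp (mk_eq_one_char_two h2 (by
                rw [QuotientGroup.mk_mul, QuotientGroup.mk_inv, e, mul_inv_cancel]))
            have hvec : ∀ (u : Vec m F) (k : Fin m), (S *ᵥ fun l => u (Sum.inr l)) k =
                b * sympForm m F u w' * w' (.inl k) := by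
              intro u k
              have := congrFun (congrArg (fun M : SpG m F => M.1 *ᵥ u) hxw) (Sum.inl k)
              rw [hxe] at this
              simpa [tmat, fromBlocks_mulVec, sympTransvection_mulVec, Function.comp_def] using this
            have hcol : ∀ l k : Fin m, S k l = b * sympForm m F (ff l) w' * w' (.inl k) := fun l k => by
              rw [← hvec]
              simp [Matrix.mulVec, dotProduct, ff, Pi.single_apply]
            by_contra hne
            have e1 := hcol o z
            have e2 := hcol o o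
            have e3 := hcol z o
            rw [hoff o o (fun e => by simp [z, o, Fin.ext_iff] at e) (by simp [o])] at e2
            rw [hsym o z] at e3
            rcases mul_eq_zero.mp e2.symm with e | e
            · exact hne (by rw [e1, e, zero_mul])
            · exact hne (by rw [e3, e, mul_zero])
          · have := (hS z o (by simp [z, o, Fin.lt_def])).2
            rw [hsym o z] at this
            have : (2 : F) * S z o = 0 := by linear_combination this
            exact (mul_eq_zero.mp this).resolve_left h2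
        · have := (hS z o (by simp [z, o, Fin.lt_def])).2
          rw [hsym o z] at this
          have : (2 : F) * S z o = 0 := by linear_combination this
          exact (mul_eq_zero.mp this).resolve_left h2
        · by_cases h2 : (2 : F) = 0
          · by_contra hne
            apply not_noFour_short h2 h3 (X := x) (a := S z z) (c := S z o) hne ?_
            · have hN : NoFour (tel (ee z : Vec m F) a) := noFour_tel h2 ha
              have := noFour_map (noFour_map hN β') (MulAut.conj (QuotientGroup.mk s : PSpG m F))⁻¹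
              rw [← hy, ← hxy] at this
              exact this
            · intro v
              rw [hxe]
              have hzo : z ≠ o := by simp [z, o, Fin.ext_iff]
              have hmv : ∀ k, (S *ᵥ fun l => v (Sum.inr l)) k =
                  S k z * v (.inr z) + S k o * v (.inr o) := by
                intro k
                simp only [Matrix.mulVec, dotProduct]
                rw [Finset.sum_eq_add z o hzo]
                · intro l _ hl
                  rw [hsym, hrow l (by
                    have h5 := hl.1; have h6 := hl.2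
                    simp only [ne_eq, z, o, Fin.ext_iff] at h5 h6
                    omega), zero_mul]
                · simp
                · simp
              have ez : (⟨0, by omega⟩ : Fin m) = z := rfl
              have eo : (⟨1, by omega⟩ : Fin m) = o := rfl
              simp only [ez, eo]
              ext (k | k)
              · simp only [fromBlocks_mulVec, Sum.elim_inl, Pi.add_apply, one_mulVec, shortVec,
                  form_ee_right, Pi.smul_apply, smul_eq_mul, Function.comp_def, hmv]
                by_cases hkz : k = z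
                · subst hkz
                  simp [ee, Pi.single_apply, hzo] <;> ring
                · by_cases hko : k = o
                  · subst hko
                    rw [hoff o o (fun e => hzo e.1.symm) (by simp [o]), hsym o z]
                    simp [ee, Pi.single_apply, Ne.symm hzo]
                  · have hk2 : 2 ≤ (k : ℕ) := by
                      simp only [z, o, Fin.ext_iff] at hkz hko; omega
                    rw [hrow k hk2, hrow k hk2]
                    simp [ee, Pi.single_apply, hkz, hko]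
              · simp [fromBlocks_mulVec, shortVec, form_ee_right, ee, Function.comp_def]
          · have := (hS z o (by simp [z, o, Fin.lt_def])).2
            rw [hsym o z] at this
            have : (2 : F) * S z o = 0 := by linear_combination this
            exact (mul_eq_zero.mp this).resolve_left h2
      rcases Nat.eq_zero_or_pos (i : ℕ) with hi | hi
      · rw [show i = z from Fin.ext hi, show j = o from Fin.ext (by simp [o]; omega)]; exact hc
      · rw [show i = o from Fin.ext (by simp [o]; omega), show j = z from Fin.ext (by simp [z]; omega),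
          hsym]; exact hc
    · exact hoff i j hij h1

/-- Automorphisms map long root groups to long root groups. -/
theorem exists_image (hm : 1 ≤ m) (hcase : (2 : F) ≠ 0 ∨ 3 ≤ m) (β : MulAut (PSpG m F)) {v : Vec m F}
    (hv : v ≠ 0) : ∃ w : Vec m F, w ≠ 0 ∧ ∀ a : F, ∃ b : F, β (tel v a) = tel w b :=
  exists_image_of_pres hm β (Or.inl hcase) hv

end CfsgLib.AutPSp
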